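import Cfsg.Agent.Lib.H63.TCJ1s.Chk
set_option Elab.async false
set_option autoImplicit false
set_option maxRecDepth 100000
set_option linter.all false
namespace H63.TCJ1s
open H35.TC
theorem r_24 : allB chkP 9 12288 = true := by decide +kernel
theorem r_25 : allB chkP 9 12800 = true := by decide +kernel
theorem r_26 : allB chkP 9 13312 = true := by decide +kernel
theorem r_27 : allB chkP 9 13824 = true := by decide +kernel
theorem r_28 : allB chkP 9 14336 = true := by decide +kernel
theorem r_29 : allB chkP 9 14848 = true := by decide +kernel
theorem r_30 : allB chkP 9 15360 = true := by decide +kernel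
theorem r_31 : allB chkP 9 15872 = true := by decide +kernel
theorem r_32 : allB chkP 9 16384 = true := by decide +kernel
theorem r_33 : allB chkP 9 16896 = true := by decide +kernel
theorem r_34 : allB chkP 9 17408 = true := by decide +kernel
theorem r_35 : allB chkP 9 17920 = true := by decide +kernel
end H63.TCJ1s
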