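import Cfsg.Agent.Lib.H63.TCJ1s.Data
import Cfsg.Agent.Lib.H35.TC
set_option autoImplicit false
set_option maxRecDepth 100000
set_option linter.all false
namespace H63.TCJ1s
open H35.TC
/-- letters -/
inductive Lt | a | b | bi
  deriving DecidableEq
/-- inverse letter -/
def inv : Lt → Lt
  | .a => .a
  | .b => .bi
  | .bi => .b
/-- table functions -/
noncomputable def T : Lt → ℕ → ℕ
  | .a => T_a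
  | .b => T_b
  | .bi => T_bi
/-- decoding of letter codes -/
def lt : ℕ → Lt
  | 0 => .a
  | 1 => .b
  | _ => .bi
/-- Coxeter matrix (0: no relation) -/
def mm : Lt → Lt → ℕ
  | .a, .a => 1
  | _, _ => 0
/-- extra relators `w ^ n` -/
def extra : List (List Lt × ℕ) := [
  ([.b], 3),
  ([.a, .b], 7),
  ([.a, .b, .a, .b, .a, .bi, .a, .b, .a, .bi, .a, .b, .a, .bi, .a, .b, .a, .bi, .a, .b, .a, .bi, .a, .b, .a, .bi, .a, .b, .a, .b, .a, .bi, .a, .bi], 2),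
  ([.a, .b, .a, .b, .a, .bi, .a, .b, .a, .bi, .a, .b, .a, .bi], 5),
  ([.b, .bi], 1),
  ([.bi, .b], 1)]
/-- relators -/
def rels : List (List Lt) := mkRels [(.a, .a)] mm extra
/-- subgroup words -/
def subs : List (List Lt) := [
  [.a, .b]]
noncomputable def dp_a_0 (j u : ℕ) : Bool :=
  Bool.rec (motive := fun _ => Bool) (lS MG [T_a] M (Nat.sub (T_a u) (Nat.mod (T_a u) M)) (nat_lit 40) (Nat.mod (T_a u) M) u) (lS MG [T_bi, T_a, T_bi, T_a, T_bi, T_a, T_bi, T_a, T_bi, T_a, T_bi, T_a, T_bi] M (Nat.sub (T_a u) (Nat.mod (T_a u) M)) (nat_lit 40) (Nat.mod (T_a u) M) u) (Nat.ble (nat_lit 7) j)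
noncomputable def dp_a_1 (j u : ℕ) : Bool :=
  Bool.rec (motive := fun _ => Bool) (lS MG [T_b, T_a, T_b, T_a, T_b, T_a, T_b, T_a, T_b, T_a, T_b, T_a, T_b] M (Nat.sub (T_a u) (Nat.mod (T_a u) M)) (nat_lit 40) (Nat.mod (T_a u) M) u) (dp_a_0 j u) (Nat.ble (nat_lit 6) j)
noncomputable def dp_a_2 (j u : ℕ) : Bool :=
  Bool.rec (motive := fun _ => Bool) (lF [T_bi, T_a, T_b, T_a, T_bi, T_a, T_bi, T_a, T_b, T_a, T_b, T_a, T_bi, T_a, T_bi, T_a, T_b, T_a, T_bi, T_a, T_b, T_a, T_bi, T_a, T_b, T_a, T_bi, T_a, T_b, T_a, T_bi, T_a, T_b, T_a, T_bi, T_a, T_b, T_a, T_bi, T_a, T_bi, T_a, T_b, T_a, T_b, T_a, T_bi, T_a, T_bi, T_a, T_b, T_a, T_bi, T_a, T_b, T_a, T_bi, T_a, T_b, T_a, T_bi, T_a, T_b, T_a, T_bi, T_a, T_b] M (Nat.sub (T_a u) (Nat.mod (T_a u) M)) (Nat.mod (T_a u) M) u) (lF [T_b, T_a, T_bi,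 T_a, T_b, T_a, T_bi, T_a, T_b, T_a, T_bi, T_a, T_b, T_a, T_bi, T_a, T_b, T_a, T_bi, T_a, T_bi, T_a, T_b, T_a, T_b, T_a, T_bi, T_a, T_bi, T_a, T_b, T_a, T_bi, T_a, T_b, T_a, T_bi, T_a, T_b, T_a, T_bi, T_a, T_b, T_a, T_bi, T_a, T_b, T_a, T_bi, T_a, T_b, T_a, T_bi, T_a, T_bi, T_a, T_b, T_a, T_b, T_a, T_bi, T_a, T_bi, T_a, T_b, T_a, T_bi] M (Nat.sub (T_a u) (Nat.mod (T_a u) M)) (Nat.mod (T_a u) M) u) (Nat.ble (nat_lit 9) j)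
noncomputable def dp_a_3 (j u : ℕ) : Bool :=
  Bool.rec (motive := fun _ => Bool) (lF [T_bi, T_a, T_b, T_a, T_bi, T_a, T_b, T_a, T_bi, T_a, T_b, T_a, T_bi, T_a, T_b, T_a, T_b, T_a, T_bi, T_a, T_bi, T_a, T_b, T_a, T_b, T_a, T_bi, T_a, T_b, T_a, T_bi, T_a, T_b, T_a, T_bi, T_a, T_b, T_a, T_bi, T_a, T_b, T_a, T_bi, T_a, T_b, T_a, T_bi, T_a, T_b, T_a, T_b, T_a, T_bi, T_a, T_bi, T_a, T_b, T_a, T_b, T_a, T_bi, T_a, T_b, T_a, T_bi, T_a, T_b] M (Nat.sub (T_a u) (Nat.mod (T_a u) M)) (Nat.mod (T_a u) M) u) (lF [T_b, T_a, T_bi, T_a, T_b, T_a, T_bi, T_a, T_bi, T_a, T_b, T_a, T_b, T_a, T_bi, T_a, T_bi, T_a, T_b, T_a, T_bi, T_a, T_b, T_a, T_bi, T_a, T_b, T_a, T_bi, T_a, T_b, T_a, T_bi, T_a, T_b, T_a, T_bi, T_a, T_b, T_a, T_bi, T_a, T_bi, T_a, T_b, T_a, T_b, T_a, T_bi, T_a, T_bi, T_a, T_b, T_a,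 T_bi, T_a, T_b, T_a, T_bi, T_a, T_b, T_a, T_bi, T_a, T_b, T_a, T_bi] M (Nat.sub (T_a u) (Nat.mod (T_a u) M)) (Nat.mod (T_a u) M) u) (Nat.ble (nat_lit 11) j)
noncomputable def dp_a_4 (j u : ℕ) : Bool :=
  Bool.rec (motive := fun _ => Bool) (dp_a_2 j u) (dp_a_3 j u) (Nat.ble (nat_lit 10) j)
noncomputable def dp_a_5 (j u : ℕ) : Bool :=
  Bool.rec (motive := fun _ => Bool) (lF [T_bi, T_a, T_b, T_a, T_bi, T_a, T_b, T_a, T_bi, T_a, T_b, T_a, T_bi, T_a, T_b, T_a, T_bi, T_a, T_b, T_a, T_bi, T_a, T_b, T_a, T_b, T_a, T_bi, T_a, T_bi, T_a, T_b, T_a, T_b, T_a, T_bi, T_a, T_b, T_a, T_bi, T_a, T_b, T_a, T_bi, T_a, T_b, T_a, T_bi, T_a, T_b, T_a, T_bi, T_a, T_b, T_a, T_bi, T_a, T_b, T_a, T_b, T_a, T_bi, T_a, T_bi, T_a, T_b, T_a, T_b] M (Nat.sub (T_a u) (Nat.mod (T_a u) M)) (Nat.mod (T_a u) M) u)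 (lF [T_b, T_a, T_bi, T_a, T_bi, T_a, T_b, T_a, T_b, T_a, T_bi, T_a, T_b, T_a, T_bi, T_a, T_b, T_a, T_bi, T_a, T_b, T_a, T_bi, T_a, T_b, T_a, T_bi, T_a, T_b, T_a, T_bi, T_a, T_b, T_a, T_b, T_a, T_bi, T_a, T_bi, T_a, T_b, T_a, T_b, T_a, T_bi, T_a, T_b, T_a, T_bi, T_a, T_b, T_a, T_bi, T_a, T_b, T_a, T_bi, T_a, T_b, T_a, T_bi, T_a, T_b, T_a, T_bi, T_a, T_b] M (Nat.sub (T_a u) (Nat.mod (T_a u) M)) (Nat.mod (T_a u) M) u) (Nat.ble (nat_lit 14) j)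
noncomputable def dp_a_6 (j u : ℕ) : Bool :=
  Bool.rec (motive := fun _ => Bool) (lF [T_b, T_a, T_bi, T_a, T_b, T_a, T_b, T_a, T_bi, T_a, T_bi, T_a, T_b, T_a, T_b, T_a, T_bi, T_a, T_b, T_a, T_bi, T_a, T_b, T_a, T_bi, T_a, T_b, T_a, T_bi, T_a, T_b, T_a, T_bi, T_a, T_b, T_a, T_bi, T_a, T_b, T_a, T_b, T_a, T_bi, T_a, T_bi, T_a, T_b, T_a, T_b, T_a, T_bi, T_a, T_b, T_a, T_bi, T_a, T_b, T_a, T_bi, T_a, T_b, T_a, T_bi, T_a, T_b, T_a, T_bi] M (Nat.sub (T_a u) (Nat.mod (T_a u) M)) (Nat.mod (T_a u) M) u) (dp_a_5 j u) (Nat.ble (nat_lit 13) j)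
noncomputable def dp_a_7 (j u : ℕ) : Bool :=
  Bool.rec (motive := fun _ => Bool) (lF [T_bi, T_a, T_b, T_a, T_bi, T_a, T_b, T_a, T_bi, T_a, T_b, T_a, T_bi, T_a, T_b, T_a, T_bi, T_a, T_bi, T_a, T_b, T_a, T_b, T_a, T_bi, T_a, T_bi, T_a, T_b, T_a, T_bi, T_a, T_b, T_a, T_bi, T_a, T_b, T_a, T_bi, T_a, T_b, T_a, T_bi, T_a, T_b, T_a, T_bi, T_a, T_b, T_a, T_bi, T_a, T_bi, T_a, T_b, T_a, T_b, T_a, T_bi, T_a, T_bi, T_a, T_b, T_a, T_bi, T_a, T_b] M (Nat.sub (T_a u) (Nat.mod (T_a u) M)) (Nat.mod (T_a u) M) u) (lS MG [T_bi, T_a, T_bi, T_a, T_b, T_a, T_bi, T_a, T_b, T_a, T_bi, T_a, T_b, T_a, T_bi, T_a, T_b, T_a, T_bi, T_a, T_b, T_a, T_bi, T_a, T_b, T_a, T_bi, T_a, T_bi, T_a, T_b, T_a, T_b, T_a, T_bi, T_a, T_bi, T_a, T_b, T_a, T_bi, T_a, T_b, T_a, T_bi, T_a, T_b, T_a, T_bi, T_a, T_b, T_a, T_bi,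 T_a, T_b, T_a, T_bi, T_a, T_b, T_a, T_bi, T_a, T_bi, T_a, T_b, T_a, T_b] M (Nat.sub (T_a u) (Nat.mod (T_a u) M)) (nat_lit 40) (Nat.mod (T_a u) M) u) (Nat.ble (nat_lit 17) j)
noncomputable def dp_a_8 (j u : ℕ) : Bool :=
  Bool.rec (motive := fun _ => Bool) (lF [T_bi, T_a, T_b, T_a, T_bi, T_a, T_b, T_a, T_bi, T_a, T_b, T_a, T_bi, T_a, T_b, T_a, T_bi, T_a, T_b, T_a, T_b, T_a, T_bi, T_a, T_bi, T_a, T_b, T_a, T_b, T_a, T_bi, T_a, T_b, T_a, T_bi, T_a, T_b, T_a, T_bi, T_a, T_b, T_a, T_bi, T_a, T_b, T_a, T_bi, T_a, T_b, T_a, T_bi, T_a, T_b, T_a, T_b, T_a, T_bi, T_a, T_bi, T_a, T_b, T_a, T_b, T_a, T_bi, T_a, T_b] M (Nat.sub (T_a u) (Nat.mod (T_a u) M)) (Nat.mod (T_a u) M) u) (dp_a_7 j u) (Nat.ble (nat_lit 16) j)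
noncomputable def dp_a_9 (j u : ℕ) : Bool :=
  Bool.rec (motive := fun _ => Bool) (dp_a_6 j u) (dp_a_8 j u) (Nat.ble (nat_lit 15) j)
noncomputable def dp_a_10 (j u : ℕ) : Bool :=
  Bool.rec (motive := fun _ => Bool) (dp_a_4 j u) (dp_a_9 j u) (Nat.ble (nat_lit 12) j)
noncomputable def dp_a_11 (j u : ℕ) : Bool :=
  Bool.rec (motive := fun _ => Bool) (dp_a_1 j u) (dp_a_10 j u) (Nat.ble (nat_lit 8) j)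
noncomputable def dp_a_12 (j u : ℕ) : Bool :=
  Bool.rec (motive := fun _ => Bool) (lF [T_b, T_a, T_bi, T_a, T_b, T_a, T_bi, T_a, T_b, T_a, T_bi, T_a, T_b, T_a, T_bi, T_a, T_b, T_a, T_bi, T_a, T_b, T_a, T_bi, T_a, T_b, T_a, T_b, T_a, T_bi, T_a, T_bi, T_a, T_b, T_a, T_b, T_a, T_bi, T_a, T_b, T_a, T_bi, T_a, T_b, T_a, T_bi, T_a, T_b, T_a, T_bi, T_a, T_b, T_a, T_bi, T_a, T_b, T_a, T_bi, T_a, T_b, T_a, T_b, T_a, T_bi, T_a, T_bi, T_a, T_b] M (Nat.sub (T_a u) (Nat.mod (T_a u) M)) (Nat.mod (T_a u) M) u) (lF [T_b, T_a, T_bi, T_a, T_b, T_a, T_bi, T_a, T_b, T_a, T_bi, T_a, T_bi, T_a, T_b, T_a, T_b, T_a, T_bi, T_a, T_bi, T_a, T_b, T_a, T_bi, T_a, T_b, T_a, T_bi, T_a, T_b, T_a, T_bi, T_a, T_b, T_a, T_bi, T_a, T_b, T_a, T_bi, T_a, T_b, T_a, T_bi, T_a, T_bi, T_a, T_b, T_a, T_b, T_a, T_bi, T_a,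 T_bi, T_a, T_b, T_a, T_bi, T_a, T_b, T_a, T_bi, T_a, T_b, T_a, T_bi] M (Nat.sub (T_a u) (Nat.mod (T_a u) M)) (Nat.mod (T_a u) M) u) (Nat.ble (nat_lit 19) j)
noncomputable def dp_a_13 (j u : ℕ) : Bool :=
  Bool.rec (motive := fun _ => Bool) (lF [T_b, T_a, T_bi, T_a, T_b, T_a, T_bi, T_a, T_b, T_a, T_bi, T_a, T_b, T_a, T_bi, T_a, T_b, T_a, T_b, T_a, T_bi, T_a, T_bi, T_a, T_b, T_a, T_b, T_a, T_bi, T_a, T_b, T_a, T_bi, T_a, T_b, T_a, T_bi, T_a, T_b, T_a, T_bi, T_a, T_b, T_a, T_bi, T_a, T_b, T_a, T_bi, T_a, T_b, T_a, T_b, T_a, T_bi, T_a, T_bi, T_a, T_b, T_a, T_b, T_a, T_bi, T_a, T_b, T_a, T_bi] M (Nat.sub (T_a u) (Nat.mod (T_a u) M)) (Nat.mod (T_a u) M) u) (lF [T_b, T_a, T_bi, T_a, T_b, T_a, T_bi, T_a, T_b, T_a, T_b, T_a, T_bi, T_a, T_bi, T_a, T_b, T_a, T_b, T_a, T_bi, T_a, T_b, T_a,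 T_bi, T_a, T_b, T_a, T_bi, T_a, T_b, T_a, T_bi, T_a, T_b, T_a, T_bi, T_a, T_b, T_a, T_bi, T_a, T_b, T_a, T_b, T_a, T_bi, T_a, T_bi, T_a, T_b, T_a, T_b, T_a, T_bi, T_a, T_b, T_a, T_bi, T_a, T_b, T_a, T_bi, T_a, T_b, T_a, T_bi] M (Nat.sub (T_a u) (Nat.mod (T_a u) M)) (Nat.mod (T_a u) M) u) (Nat.ble (nat_lit 21) j)
noncomputable def dp_a_14 (j u : ℕ) : Bool :=
  Bool.rec (motive := fun _ => Bool) (dp_a_12 j u) (dp_a_13 j u) (Nat.ble (nat_lit 20) j)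
noncomputable def dp_a_15 (j u : ℕ) : Bool :=
  Bool.rec (motive := fun _ => Bool) (lS MG [T_b, T_a, T_bi, T_a, T_bi, T_a, T_b, T_a, T_b, T_a, T_bi, T_a, T_b, T_a, T_bi, T_a, T_b, T_a, T_bi, T_a, T_b, T_a, T_bi, T_a, T_b, T_a, T_bi, T_a, T_b, T_a, T_bi, T_a, T_b, T_a, T_b, T_a, T_bi, T_a, T_bi, T_a, T_b, T_a, T_b, T_a, T_bi, T_a, T_b, T_a, T_bi, T_a, T_b, T_a, T_bi, T_a, T_b, T_a, T_bi, T_a, T_b, T_a, T_bi, T_a, T_b, T_a, T_bi, T_a, T_b] M (Nat.sub (T_a u) (Nat.mod (T_a u) M)) (nat_lit 40) (Nat.mod (T_a u) M) u) (lS MG [T_bi, T_a, T_b, T_a, T_bi, T_a, T_b, T_a, T_bi, T_a, T_b, T_a, T_bi, T_a, T_b, T_a, T_bi, T_a, T_b, T_a, T_bi, T_a, T_bi, T_a, T_b, T_a, T_b, T_a, T_bi, T_a, T_bi, T_a, T_b, T_a, T_bi, T_a, T_b, T_a, T_bi, T_a, T_b, T_a, T_bi, T_a, T_b, T_a, T_bi, T_a, T_b, T_a,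 T_bi, T_a, T_b, T_a, T_bi, T_a, T_bi, T_a, T_b, T_a, T_b, T_a, T_bi, T_a, T_bi, T_a, T_b] M (Nat.sub (T_a u) (Nat.mod (T_a u) M)) (nat_lit 40) (Nat.mod (T_a u) M) u) (Nat.ble (nat_lit 23) j)
noncomputable def dp_a_16 (j u : ℕ) : Bool :=
  Bool.rec (motive := fun _ => Bool) (lF [T_bi, T_a, T_bi, T_a, T_b, T_a, T_b, T_a, T_bi, T_a, T_b, T_a, T_bi, T_a, T_b, T_a, T_bi, T_a, T_b, T_a, T_bi, T_a, T_b, T_a, T_bi, T_a, T_b, T_a, T_bi, T_a, T_b, T_a, T_b, T_a, T_bi, T_a, T_bi, T_a, T_b, T_a, T_b, T_a, T_bi, T_a, T_b, T_a, T_bi, T_a, T_b, T_a, T_bi, T_a, T_b, T_a, T_bi, T_a, T_b, T_a, T_bi, T_a, T_b, T_a, T_bi, T_a, T_b, T_a, T_b] M (Nat.sub (T_a u) (Nat.mod (T_a u) M)) (Nat.mod (T_a u) M) u) (lF [T_bi, T_a, T_bi, T_a, T_b, T_a, T_bi, T_a, T_b, T_a, T_bi, T_a, T_b, T_a, T_bi, T_a, T_b, T_a,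 T_bi, T_a, T_b, T_a, T_bi, T_a, T_b, T_a, T_bi, T_a, T_bi, T_a, T_b, T_a, T_b, T_a, T_bi, T_a, T_bi, T_a, T_b, T_a, T_bi, T_a, T_b, T_a, T_bi, T_a, T_b, T_a, T_bi, T_a, T_b, T_a, T_bi, T_a, T_b, T_a, T_bi, T_a, T_b, T_a, T_bi, T_a, T_bi, T_a, T_b, T_a, T_b] M (Nat.sub (T_a u) (Nat.mod (T_a u) M)) (Nat.mod (T_a u) M) u) (Nat.ble (nat_lit 25) j)
noncomputable def dp_a_17 (j u : ℕ) : Bool :=
  Bool.rec (motive := fun _ => Bool) (dp_a_15 j u) (dp_a_16 j u) (Nat.ble (nat_lit 24) j)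
noncomputable def dp_a_18 (j u : ℕ) : Bool :=
  Bool.rec (motive := fun _ => Bool) (dp_a_14 j u) (dp_a_17 j u) (Nat.ble (nat_lit 22) j)
noncomputable def dp_a_19 (j u : ℕ) : Bool :=
  Bool.rec (motive := fun _ => Bool) (lF [T_bi, T_a, T_b, T_a, T_bi, T_a, T_b, T_a, T_bi, T_a, T_b, T_a, T_b, T_a, T_bi, T_a, T_bi, T_a, T_b, T_a, T_b, T_a, T_bi, T_a, T_b, T_a, T_bi, T_a, T_b, T_a, T_bi, T_a, T_b, T_a, T_bi, T_a, T_b, T_a, T_bi, T_a, T_b, T_a, T_bi, T_a, T_b, T_a, T_b, T_a, T_bi, T_a, T_bi, T_a, T_b, T_a, T_b, T_a, T_bi, T_a, T_b, T_a, T_bi, T_a, T_b, T_a, T_bi, T_a, T_b] M (Nat.sub (T_a u) (Nat.mod (T_a u) M)) (Nat.mod (T_a u) M) u) (lF [T_bi, T_a, T_b, T_a, T_bi, T_a, T_b, T_a, T_b, T_a, T_bi, T_a, T_bi, T_a, T_b, T_a, T_b, T_a, T_bi, T_a, T_b, T_a, T_bi, T_a, T_b, T_a, T_bi, T_a,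 T_b, T_a, T_bi, T_a, T_b, T_a, T_bi, T_a, T_b, T_a, T_bi, T_a, T_b, T_a, T_b, T_a, T_bi, T_a, T_bi, T_a, T_b, T_a, T_b, T_a, T_bi, T_a, T_b, T_a, T_bi, T_a, T_b, T_a, T_bi, T_a, T_b, T_a, T_bi, T_a, T_b] M (Nat.sub (T_a u) (Nat.mod (T_a u) M)) (Nat.mod (T_a u) M) u) (Nat.ble (nat_lit 27) j)
noncomputable def dp_a_20 (j u : ℕ) : Bool :=
  Bool.rec (motive := fun _ => Bool) (lF [T_bi, T_a, T_b, T_a, T_b, T_a, T_bi, T_a, T_bi, T_a, T_b, T_a, T_b, T_a, T_bi, T_a, T_b, T_a, T_bi, T_a, T_b, T_a, T_bi, T_a, T_b, T_a, T_bi, T_a, T_b, T_a, T_bi, T_a, T_b, T_a, T_bi, T_a, T_b, T_a, T_b, T_a, T_bi, T_a, T_bi, T_a, T_b, T_a, T_b, T_a, T_bi, T_a, T_b, T_a, T_bi, T_a, T_b, T_a, T_bi, T_a, T_b, T_a, T_bi, T_a, T_b, T_a, T_bi, T_a, T_b] M (Nat.sub (T_a u) (Nat.mod (T_a u) M)) (Nat.mod (T_a u) M)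 u) (lF [T_b, T_a, T_bi, T_a, T_b, T_a, T_bi, T_a, T_b, T_a, T_bi, T_a, T_b, T_a, T_bi, T_a, T_bi, T_a, T_b, T_a, T_b, T_a, T_bi, T_a, T_bi, T_a, T_b, T_a, T_bi, T_a, T_b, T_a, T_bi, T_a, T_b, T_a, T_bi, T_a, T_b, T_a, T_bi, T_a, T_b, T_a, T_bi, T_a, T_b, T_a, T_bi, T_a, T_bi, T_a, T_b, T_a, T_b, T_a, T_bi, T_a, T_bi, T_a, T_b, T_a, T_bi, T_a, T_b, T_a, T_bi] M (Nat.sub (T_a u) (Nat.mod (T_a u) M)) (Nat.mod (T_a u) M) u) (Nat.ble (nat_lit 30) j)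
noncomputable def dp_a_21 (j u : ℕ) : Bool :=
  Bool.rec (motive := fun _ => Bool) (lF [T_b, T_a, T_bi, T_a, T_b, T_a, T_bi, T_a, T_b, T_a, T_bi, T_a, T_b, T_a, T_bi, T_a, T_b, T_a, T_bi, T_a, T_b, T_a, T_b, T_a, T_bi, T_a, T_bi, T_a, T_b, T_a, T_b, T_a, T_bi, T_a, T_b, T_a, T_bi, T_a, T_b, T_a, T_bi, T_a, T_b, T_a, T_bi, T_a, T_b, T_a, T_bi, T_a, T_b, T_a, T_bi, T_a, T_b, T_a, T_b, T_a, T_bi, T_a, T_bi, T_a, T_b, T_a, T_b, T_a, T_bi] M (Nat.sub (T_a u) (Nat.mod (T_a u) M)) (Nat.mod (T_a u) M) u) (dp_a_20 j u) (Nat.ble (nat_lit 29) j)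
noncomputable def dp_a_22 (j u : ℕ) : Bool :=
  Bool.rec (motive := fun _ => Bool) (dp_a_19 j u) (dp_a_21 j u) (Nat.ble (nat_lit 28) j)
noncomputable def dp_a_23 (j u : ℕ) : Bool :=
  Bool.rec (motive := fun _ => Bool) (lS MG [T_b, T_a, T_bi, T_a, T_b, T_a, T_bi, T_a, T_b, T_a, T_bi, T_a, T_b, T_a, T_bi, T_a, T_b, T_a, T_bi, T_a, T_bi, T_a, T_b, T_a, T_b, T_a, T_bi, T_a, T_bi, T_a, T_b, T_a, T_bi, T_a, T_b, T_a, T_bi, T_a, T_b, T_a, T_bi, T_a, T_b, T_a, T_bi, T_a, T_b, T_a, T_bi, T_a, T_b, T_a, T_bi, T_a, T_bi, T_a, T_b, T_a, T_b, T_a, T_bi, T_a, T_bi, T_a, T_b, T_a, T_bi] M (Nat.sub (T_a u) (Nat.mod (T_a u) M)) (nat_lit 40) (Nat.mod (T_a u) M) u) (lF [T_b, T_a, T_bi, T_a, T_bi, T_a, T_b, T_a, T_b, T_a, T_bi, T_a, T_bi, T_a, T_b, T_a, T_bi, T_a, T_b, T_a, T_bi, T_a, T_b, T_a, T_bi,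 T_a, T_b, T_a, T_bi, T_a, T_b, T_a, T_bi, T_a, T_b, T_a, T_bi, T_a, T_bi, T_a, T_b, T_a, T_b, T_a, T_bi, T_a, T_bi, T_a, T_b, T_a, T_bi, T_a, T_b, T_a, T_bi, T_a, T_b, T_a, T_bi, T_a, T_b, T_a, T_bi, T_a, T_b, T_a, T_bi] M (Nat.sub (T_a u) (Nat.mod (T_a u) M)) (Nat.mod (T_a u) M) u) (Nat.ble (nat_lit 33) j)
noncomputable def dp_a_24 (j u : ℕ) : Bool :=
  Bool.rec (motive := fun _ => Bool) (lS MG [T_bi, T_a, T_b, T_a, T_b, T_a, T_bi, T_a, T_bi, T_a, T_b, T_a, T_bi, T_a, T_b, T_a, T_bi, T_a, T_b, T_a, T_bi, T_a, T_b, T_a, T_bi, T_a, T_b, T_a, T_bi, T_a, T_b, T_a, T_bi, T_a, T_bi, T_a, T_b, T_a, T_b, T_a, T_bi, T_a, T_bi, T_a, T_b, T_a, T_bi, T_a, T_b, T_a, T_bi, T_a, T_b, T_a, T_bi, T_a, T_b, T_a, T_bi, T_a, T_b, T_a, T_bi, T_a, T_b, T_a, T_bi] M (Nat.sub (T_a u) (Nat.mod (T_a u)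 M)) (nat_lit 40) (Nat.mod (T_a u) M) u) (dp_a_23 j u) (Nat.ble (nat_lit 32) j)
noncomputable def dp_a_25 (j u : ℕ) : Bool :=
  Bool.rec (motive := fun _ => Bool) (lS MG [T_b, T_a, T_bi, T_a, T_b, T_a, T_bi, T_a, T_bi, T_a, T_b, T_a, T_b, T_a, T_bi, T_a, T_bi, T_a, T_b, T_a, T_bi, T_a, T_b, T_a, T_bi, T_a, T_b, T_a, T_bi, T_a, T_b, T_a, T_bi, T_a, T_b, T_a, T_bi, T_a, T_b, T_a, T_bi, T_a, T_bi, T_a, T_b, T_a, T_b, T_a, T_bi, T_a, T_bi, T_a, T_b, T_a, T_bi, T_a, T_b, T_a, T_bi, T_a, T_b, T_a, T_bi, T_a, T_b, T_a, T_bi] M (Nat.sub (T_a u) (Nat.mod (T_a u) M)) (nat_lit 40) (Nat.mod (T_a u) M) u) (lS MG [T_b, T_a, T_b, T_a, T_bi, T_a, T_bi, T_a, T_b, T_a, T_bi, T_a, T_b, T_a, T_bi, T_a, T_b, T_a, T_bi, T_a, T_b, T_a, T_bi, T_a, T_b, T_a, T_bi, T_a, T_b, T_a, T_bi, T_a, T_bi, T_a, T_b,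 T_a, T_b, T_a, T_bi, T_a, T_bi, T_a, T_b, T_a, T_bi, T_a, T_b, T_a, T_bi, T_a, T_b, T_a, T_bi, T_a, T_b, T_a, T_bi, T_a, T_b, T_a, T_bi, T_a, T_b, T_a, T_bi, T_a, T_bi] M (Nat.sub (T_a u) (Nat.mod (T_a u) M)) (nat_lit 40) (Nat.mod (T_a u) M) u) (Nat.ble (nat_lit 36) j)
noncomputable def dp_a_26 (j u : ℕ) : Bool :=
  Bool.rec (motive := fun _ => Bool) (lS MG [T_b, T_a, T_bi, T_a, T_b, T_a, T_bi, T_a, T_b, T_a, T_bi, T_a, T_b, T_a, T_bi, T_a, T_b, T_a, T_bi, T_a, T_b, T_a, T_bi, T_a, T_b, T_a, T_b, T_a, T_bi, T_a, T_bi, T_a, T_b, T_a, T_b, T_a, T_bi, T_a, T_b, T_a, T_bi, T_a, T_b, T_a, T_bi, T_a, T_b, T_a, T_bi, T_a, T_b, T_a, T_bi, T_a, T_b, T_a, T_bi, T_a, T_b, T_a, T_b, T_a, T_bi, T_a, T_bi, T_a, T_b] M (Nat.sub (T_a u) (Nat.mod (T_a u) M)) (nat_lit 40) (Nat.mod (T_a u) M) u) (dp_a_25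 j u) (Nat.ble (nat_lit 35) j)
noncomputable def dp_a_27 (j u : ℕ) : Bool :=
  Bool.rec (motive := fun _ => Bool) (dp_a_24 j u) (dp_a_26 j u) (Nat.ble (nat_lit 34) j)
noncomputable def dp_a_28 (j u : ℕ) : Bool :=
  Bool.rec (motive := fun _ => Bool) (dp_a_22 j u) (dp_a_27 j u) (Nat.ble (nat_lit 31) j)
noncomputable def dp_a_29 (j u : ℕ) : Bool :=
  Bool.rec (motive := fun _ => Bool) (dp_a_18 j u) (dp_a_28 j u) (Nat.ble (nat_lit 26) j)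
noncomputable def dp_a_30 (j u : ℕ) : Bool :=
  Bool.rec (motive := fun _ => Bool) (lS MG [T_bi, T_a, T_b, T_a, T_b, T_a, T_bi, T_a, T_bi, T_a, T_b, T_a, T_b, T_a, T_bi, T_a, T_b, T_a, T_bi, T_a, T_b, T_a, T_bi, T_a, T_b, T_a, T_bi, T_a, T_b, T_a, T_bi, T_a, T_b, T_a, T_bi, T_a, T_b, T_a, T_b, T_a, T_bi, T_a, T_bi, T_a, T_b, T_a, T_b, T_a, T_bi, T_a, T_b, T_a, T_bi, T_a, T_b, T_a, T_bi, T_a, T_b, T_a, T_bi, T_a, T_b, T_a, T_bi, T_a, T_b] M (Nat.sub (T_a u) (Nat.mod (T_a u) M)) (nat_lit 40) (Nat.mod (T_a u) M) u) (lF [T_bi, T_a, T_b, T_a, T_bi, T_a, T_b, T_a, T_bi, T_a, T_bi, T_a, T_b, T_a, T_b, T_a, T_bi, T_a, T_bi, T_a, T_b, T_a, T_bi, T_a, T_b, T_a, T_bi, T_a, T_b, T_a, T_bi, T_a, T_b, T_a, T_bi, T_a, T_b, T_a, T_bi, T_a, T_b, T_a, T_bi, T_a, T_bi, T_a, T_b, T_a, T_b, T_a, T_bi,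 T_a, T_bi, T_a, T_b, T_a, T_bi, T_a, T_b, T_a, T_bi, T_a, T_b, T_a, T_bi, T_a, T_b] M (Nat.sub (T_a u) (Nat.mod (T_a u) M)) (Nat.mod (T_a u) M) u) (Nat.ble (nat_lit 39) j)
noncomputable def dp_a_31 (j u : ℕ) : Bool :=
  Bool.rec (motive := fun _ => Bool) (lF [T_b, T_a, T_b, T_a, T_bi, T_a, T_bi, T_a, T_b, T_a, T_b, T_a, T_bi, T_a, T_b, T_a, T_bi, T_a, T_b, T_a, T_bi, T_a, T_b, T_a, T_bi, T_a, T_b, T_a, T_bi, T_a, T_b, T_a, T_bi, T_a, T_b, T_a, T_b, T_a, T_bi, T_a, T_bi, T_a, T_b, T_a, T_b, T_a, T_bi, T_a, T_b, T_a, T_bi, T_a, T_b, T_a, T_bi, T_a, T_b, T_a, T_bi, T_a, T_b, T_a, T_bi, T_a, T_b, T_a, T_bi] M (Nat.sub (T_a u) (Nat.mod (T_a u) M)) (Nat.mod (T_a u) M) u) (dp_a_30 j u) (Nat.ble (nat_lit 38) j)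
noncomputable def dp_a_32 (j u : ℕ) : Bool :=
  Bool.rec (motive := fun _ => Bool) (lS MG [T_bi, T_a, T_b, T_a, T_bi, T_a, T_b, T_a, T_bi, T_a, T_bi, T_a, T_b, T_a, T_b, T_a, T_bi, T_a, T_bi, T_a, T_b, T_a, T_bi, T_a, T_b, T_a, T_bi, T_a, T_b, T_a, T_bi, T_a, T_b, T_a, T_bi, T_a, T_b, T_a, T_bi, T_a, T_b, T_a, T_bi, T_a, T_bi, T_a, T_b, T_a, T_b, T_a, T_bi, T_a, T_bi, T_a, T_b, T_a, T_bi, T_a, T_b, T_a, T_bi, T_a, T_b, T_a, T_bi, T_a, T_b] M (Nat.sub (T_a u) (Nat.mod (T_a u) M)) (nat_lit 40) (Nat.mod (T_a u) M) u) (lF [T_b, T_a, T_b, T_a, T_bi, T_a, T_bi, T_a, T_b, T_a, T_bi, T_a, T_b, T_a, T_bi, T_a, T_b, T_a, T_bi, T_a, T_b, T_a, T_bi, T_a, T_b, T_a, T_bi, T_a, T_b, T_a, T_bi, T_a, T_bi, T_a, T_b, T_a, T_b, T_a, T_bi, T_a, T_bi, T_a, T_b, T_a, T_bi, T_a, T_b, T_a, T_bi, T_a, T_b,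 T_a, T_bi, T_a, T_b, T_a, T_bi, T_a, T_b, T_a, T_bi, T_a, T_b, T_a, T_bi, T_a, T_bi] M (Nat.sub (T_a u) (Nat.mod (T_a u) M)) (Nat.mod (T_a u) M) u) (Nat.ble (nat_lit 41) j)
noncomputable def dp_a_33 (j u : ℕ) : Bool :=
  Bool.rec (motive := fun _ => Bool) (lS MG [T_b, T_a, T_bi, T_a, T_b, T_a, T_bi, T_a, T_b, T_a, T_b, T_a, T_bi, T_a, T_bi, T_a, T_b, T_a, T_b, T_a, T_bi, T_a, T_b, T_a, T_bi, T_a, T_b, T_a, T_bi, T_a, T_b, T_a, T_bi, T_a, T_b, T_a, T_bi, T_a, T_b, T_a, T_bi, T_a, T_b, T_a, T_b, T_a, T_bi, T_a, T_bi, T_a, T_b, T_a, T_b, T_a, T_bi, T_a, T_b, T_a, T_bi, T_a, T_b, T_a, T_bi, T_a, T_b, T_a, T_bi] M (Nat.sub (T_a u) (Nat.mod (T_a u) M)) (nat_lit 40) (Nat.mod (T_a u) M) u) (lS MG [T_bi, T_a, T_b, T_a, T_bi, T_a, T_b, T_a, T_bi, T_a, T_b, T_a, T_bi, T_a, T_b, T_a, T_bi,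 T_a, T_b, T_a, T_bi, T_a, T_b, T_a, T_bi, T_a, T_bi, T_a, T_b, T_a, T_b, T_a, T_bi, T_a, T_bi, T_a, T_b, T_a, T_bi, T_a, T_b, T_a, T_bi, T_a, T_b, T_a, T_bi, T_a, T_b, T_a, T_bi, T_a, T_b, T_a, T_bi, T_a, T_b, T_a, T_bi, T_a, T_bi, T_a, T_b, T_a, T_b, T_a, T_bi] M (Nat.sub (T_a u) (Nat.mod (T_a u) M)) (nat_lit 40) (Nat.mod (T_a u) M) u) (Nat.ble (nat_lit 43) j)
noncomputable def dp_a_34 (j u : ℕ) : Bool :=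
  Bool.rec (motive := fun _ => Bool) (dp_a_32 j u) (dp_a_33 j u) (Nat.ble (nat_lit 42) j)
noncomputable def dp_a_35 (j u : ℕ) : Bool :=
  Bool.rec (motive := fun _ => Bool) (dp_a_31 j u) (dp_a_34 j u) (Nat.ble (nat_lit 40) j)
noncomputable def dp_a_36 (j u : ℕ) : Bool :=
  Bool.rec (motive := fun _ => Bool) (lS MG [T_bi, T_a, T_b, T_a, T_bi, T_a, T_bi, T_a, T_b, T_a, T_b, T_a, T_bi, T_a, T_bi, T_a, T_b, T_a, T_bi, T_a, T_b, T_a, T_bi, T_a, T_b, T_a, T_bi, T_a, T_b, T_a, T_bi, T_a, T_b, T_a, T_bi, T_a, T_b, T_a, T_bi, T_a, T_bi, T_a, T_b, T_a, T_b, T_a, T_bi, T_a, T_bi, T_a, T_b, T_a, T_bi, T_a, T_b, T_a, T_bi, T_a, T_b, T_a, T_bi, T_a, T_b, T_a, T_bi, T_a, T_b] M (Nat.sub (T_a u) (Nat.mod (T_a u) M)) (nat_lit 40) (Nat.mod (T_a u) M) u) (lS MG [T_bi, T_a, T_b, T_a, T_bi, T_a, T_b,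 T_a, T_bi, T_a, T_b, T_a, T_bi, T_a, T_b, T_a, T_b, T_a, T_bi, T_a, T_bi, T_a, T_b, T_a, T_b, T_a, T_bi, T_a, T_b, T_a, T_bi, T_a, T_b, T_a, T_bi, T_a, T_b, T_a, T_bi, T_a, T_b, T_a, T_bi, T_a, T_b, T_a, T_bi, T_a, T_b, T_a, T_b, T_a, T_bi, T_a, T_bi, T_a, T_b, T_a, T_b, T_a, T_bi, T_a, T_b, T_a, T_bi, T_a, T_b] M (Nat.sub (T_a u) (Nat.mod (T_a u) M)) (nat_lit 40) (Nat.mod (T_a u) M) u) (Nat.ble (nat_lit 45) j)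
noncomputable def dp_a_37 (j u : ℕ) : Bool :=
  Bool.rec (motive := fun _ => Bool) (lF [T_bi, T_a, T_b, T_a, T_bi, T_a, T_b, T_a, T_bi, T_a, T_b, T_a, T_bi, T_a, T_b, T_a, T_bi, T_a, T_b, T_a, T_bi, T_a, T_bi, T_a, T_b, T_a, T_b, T_a, T_bi, T_a, T_bi, T_a, T_b, T_a, T_bi, T_a, T_b, T_a, T_bi, T_a, T_b, T_a, T_bi, T_a, T_b, T_a, T_bi, T_a, T_b, T_a, T_bi, T_a, T_b, T_a, T_bi, T_a, T_bi, T_a, T_b, T_a, T_b, T_a, T_bi, T_a, T_bi, T_a, T_b] M (Nat.sub (T_a u) (Nat.mod (T_a u) M)) (Nat.mod (T_a u) M) u) (lS MG [T_bi, T_a, T_b, T_a, T_bi, T_a, T_b, T_a, T_b, T_a, T_bi, T_a, T_bi, T_a, T_b, T_a, T_b, T_a, T_bi, T_a, T_b, T_a, T_bi, T_a, T_b, T_a, T_bi, T_a, T_b, T_a, T_bi, T_a, T_b, T_a, T_bi, T_a, T_b, T_a, T_bi, T_a, T_b, T_a, T_b, T_a, T_bi, T_a, T_bi, T_a, T_b, T_a, T_b, T_a, T_bi,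 T_a, T_b, T_a, T_bi, T_a, T_b, T_a, T_bi, T_a, T_b, T_a, T_bi, T_a, T_b] M (Nat.sub (T_a u) (Nat.mod (T_a u) M)) (nat_lit 40) (Nat.mod (T_a u) M) u) (Nat.ble (nat_lit 47) j)
noncomputable def dp_a_38 (j u : ℕ) : Bool :=
  Bool.rec (motive := fun _ => Bool) (dp_a_36 j u) (dp_a_37 j u) (Nat.ble (nat_lit 46) j)
noncomputable def dp_a_39 (j u : ℕ) : Bool :=
  Bool.rec (motive := fun _ => Bool) (lF [T_b, T_a, T_bi, T_a, T_b, T_a, T_bi, T_a, T_b, T_a, T_bi, T_a, T_b, T_a, T_b, T_a, T_bi, T_a, T_bi, T_a, T_b, T_a, T_b, T_a, T_bi, T_a, T_b, T_a, T_bi, T_a, T_b, T_a, T_bi, T_a, T_b, T_a, T_bi, T_a, T_b, T_a, T_bi, T_a, T_b, T_a, T_bi, T_a, T_b, T_a, T_b, T_a, T_bi, T_a, T_bi, T_a, T_b, T_a, T_b, T_a, T_bi, T_a, T_b, T_a, T_bi, T_a, T_b, T_a, T_bi] M (Nat.sub (T_a u) (Nat.mod (T_a u) M))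 (Nat.mod (T_a u) M) u) (lS MG [T_b, T_a, T_bi, T_a, T_bi, T_a, T_b, T_a, T_b, T_a, T_bi, T_a, T_bi, T_a, T_b, T_a, T_bi, T_a, T_b, T_a, T_bi, T_a, T_b, T_a, T_bi, T_a, T_b, T_a, T_bi, T_a, T_b, T_a, T_bi, T_a, T_b, T_a, T_bi, T_a, T_bi, T_a, T_b, T_a, T_b, T_a, T_bi, T_a, T_bi, T_a, T_b, T_a, T_bi, T_a, T_b, T_a, T_bi, T_a, T_b, T_a, T_bi, T_a, T_b, T_a, T_bi, T_a, T_b, T_a, T_bi] M (Nat.sub (T_a u) (Nat.mod (T_a u) M)) (nat_lit 40) (Nat.mod (T_a u) M) u) (Nat.ble (nat_lit 49) j)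
noncomputable def dp_a_40 (j u : ℕ) : Bool :=
  Bool.rec (motive := fun _ => Bool) (lS MG [T_bi, T_a, T_b, T_a, T_bi, T_a, T_b, T_a, T_bi, T_a, T_b, T_a, T_bi, T_a, T_b, T_a, T_bi, T_a, T_b, T_a, T_bi, T_a, T_b, T_a, T_b, T_a, T_bi, T_a, T_bi, T_a, T_b, T_a, T_b, T_a, T_bi, T_a, T_b, T_a, T_bi, T_a, T_b, T_a, T_bi, T_a, T_b, T_a, T_bi, T_a, T_b, T_a, T_bi, T_a, T_b, T_a, T_bi, T_a, T_b, T_a, T_b, T_a, T_bi, T_a, T_bi, T_a, T_b, T_a, T_b] M (Nat.sub (T_a u) (Nat.mod (T_a u) M)) (nat_lit 40) (Nat.mod (T_a u) M) u) (lF [T_b, T_a, T_b, T_a, T_bi, T_a, T_b, T_a, T_bi, T_a, T_b, T_a, T_bi, T_a, T_b, T_a, T_bi, T_a, T_b, T_a, T_bi, T_a, T_b, T_a, T_bi, T_a, T_b, T_a, T_b, T_a, T_bi, T_a, T_bi, T_a, T_b, T_a, T_b, T_a, T_bi, T_a, T_b, T_a, T_bi, T_a, T_b, T_a, T_bi, T_a, T_b, T_a, T_bi,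 T_a, T_b, T_a, T_bi, T_a, T_b, T_a, T_bi, T_a, T_b, T_a, T_b, T_a, T_bi, T_a, T_bi] M (Nat.sub (T_a u) (Nat.mod (T_a u) M)) (Nat.mod (T_a u) M) u) (Nat.ble (nat_lit 51) j)
noncomputable def dp_a_41 (j u : ℕ) : Bool :=
  Bool.rec (motive := fun _ => Bool) (dp_a_39 j u) (dp_a_40 j u) (Nat.ble (nat_lit 50) j)
noncomputable def dp_a_42 (j u : ℕ) : Bool :=
  Bool.rec (motive := fun _ => Bool) (dp_a_38 j u) (dp_a_41 j u) (Nat.ble (nat_lit 48) j)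
noncomputable def dp_a_43 (j u : ℕ) : Bool :=
  Bool.rec (motive := fun _ => Bool) (dp_a_35 j u) (dp_a_42 j u) (Nat.ble (nat_lit 44) j)
noncomputable def dp_a_44 (j u : ℕ) : Bool :=
  Bool.rec (motive := fun _ => Bool) (lF [T_bi, T_a, T_b, T_a, T_b, T_a, T_bi, T_a, T_b, T_a, T_bi, T_a, T_b, T_a, T_bi, T_a, T_b, T_a, T_bi, T_a, T_b, T_a, T_bi, T_a, T_b, T_a, T_bi, T_a, T_b, T_a, T_b, T_a, T_bi, T_a, T_bi, T_a, T_b, T_a, T_b, T_a, T_bi, T_a, T_b, T_a, T_bi, T_a, T_b, T_a, T_bi, T_a, T_b, T_a, T_bi, T_a, T_b, T_a, T_bi, T_a, T_b, T_a, T_bi, T_a, T_b, T_a, T_b, T_a, T_bi] M (Nat.sub (T_a u) (Nat.mod (T_a u) M)) (Nat.mod (T_a u) M) u) (lF [T_bi, T_a, T_b, T_a, T_bi, T_a, T_b, T_a, T_bi, T_a, T_b, T_a, T_bi, T_a, T_bi, T_a, T_b, T_a, T_bi, T_a, T_b, T_a, T_bi, T_a, T_b, T_a, T_bi, T_a,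 T_bi, T_a, T_b, T_a, T_bi, T_a, T_b, T_a, T_bi, T_a, T_b, T_a, T_bi, T_a, T_bi, T_a, T_b, T_a, T_bi, T_a, T_b, T_a, T_bi, T_a, T_b, T_a, T_bi, T_a, T_bi, T_a, T_b, T_a, T_bi, T_a, T_b, T_a, T_bi, T_a, T_b, T_a, T_bi] M (Nat.sub (T_a u) (Nat.mod (T_a u) M)) (Nat.mod (T_a u) M) u) (Nat.ble (nat_lit 53) j)
noncomputable def dp_a_45 (j u : ℕ) : Bool :=
  Bool.rec (motive := fun _ => Bool) (lF [T_b, T_a, T_bi, T_a, T_b, T_a, T_bi, T_a, T_bi, T_a, T_b, T_a, T_bi, T_a, T_b, T_a, T_bi, T_a, T_b, T_a, T_bi, T_a, T_bi, T_a, T_b, T_a, T_bi, T_a, T_b, T_a, T_bi, T_a, T_b, T_a, T_bi, T_a, T_bi, T_a, T_b, T_a, T_bi, T_a, T_b, T_a, T_bi, T_a, T_b, T_a, T_bi, T_a, T_bi, T_a, T_b, T_a, T_bi, T_a, T_b, T_a, T_bi, T_a, T_b, T_a, T_bi, T_a, T_bi, T_a, T_b, T_a, T_bi] M (Nat.sub (T_a u) (Nat.mod (T_a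 u) M)) (Nat.mod (T_a u) M) u) (lS MG [T_b, T_a, T_bi, T_a, T_b, T_a, T_bi, T_a, T_b, T_a, T_bi, T_a, T_bi, T_a, T_b, T_a, T_b, T_a, T_bi, T_a, T_bi, T_a, T_b, T_a, T_bi, T_a, T_b, T_a, T_bi, T_a, T_b, T_a, T_bi, T_a, T_b, T_a, T_bi, T_a, T_b, T_a, T_bi, T_a, T_b, T_a, T_bi, T_a, T_bi, T_a, T_b, T_a, T_b, T_a, T_bi, T_a, T_bi, T_a, T_b, T_a, T_bi, T_a, T_b, T_a, T_bi, T_a, T_b, T_a, T_bi] M (Nat.sub (T_a u) (Nat.mod (T_a u) M)) (nat_lit 40) (Nat.mod (T_a u) M) u) (Nat.ble (nat_lit 56) j)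
noncomputable def dp_a_46 (j u : ℕ) : Bool :=
  Bool.rec (motive := fun _ => Bool) (lF [T_bi, T_a, T_b, T_a, T_bi, T_a, T_b, T_a, T_bi, T_a, T_b, T_a, T_bi, T_a, T_bi, T_a, T_b, T_a, T_b, T_a, T_bi, T_a, T_bi, T_a, T_b, T_a, T_bi, T_a, T_b, T_a, T_bi, T_a, T_b, T_a, T_bi, T_a, T_b, T_a, T_bi, T_a, T_b, T_a, T_bi, T_a, T_b, T_a, T_bi, T_a, T_bi, T_a, T_b, T_a, T_b, T_a, T_bi, T_a, T_bi, T_a, T_b, T_a, T_bi, T_a, T_b, T_a, T_bi, T_a, T_b] M (Nat.sub (T_a u) (Nat.mod (T_a u) M)) (Nat.mod (T_a u) M) u) (dp_a_45 j u) (Nat.ble (nat_lit 55) j)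
noncomputable def dp_a_47 (j u : ℕ) : Bool :=
  Bool.rec (motive := fun _ => Bool) (dp_a_44 j u) (dp_a_46 j u) (Nat.ble (nat_lit 54) j)
noncomputable def dp_a_48 (j u : ℕ) : Bool :=
  Bool.rec (motive := fun _ => Bool) (lS MG [T_b, T_a, T_bi, T_a, T_b, T_a, T_bi, T_a, T_b, T_a, T_bi, T_a, T_b, T_a, T_bi, T_a, T_b, T_a, T_b, T_a, T_bi, T_a, T_bi, T_a, T_b, T_a, T_b, T_a, T_bi, T_a, T_b, T_a, T_bi, T_a, T_b, T_a, T_bi, T_a, T_b, T_a, T_bi, T_a, T_b, T_a, T_bi, T_a, T_b, T_a, T_bi, T_a, T_b, T_a, T_b, T_a, T_bi, T_a, T_bi, T_a, T_b, T_a, T_b, T_a, T_bi, T_a, T_b, T_a, T_bi] M (Nat.sub (T_a u) (Nat.mod (T_a u) M)) (nat_lit 40) (Nat.mod (T_a u) M) u) (lF [T_b, T_a, T_bi, T_a, T_b, T_a, T_bi, T_a, T_b, T_a, T_bi, T_a, T_b, T_a, T_bi, T_a, T_b, T_a, T_bi, T_a, T_b, T_a, T_bi, T_a, T_bi,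 T_a, T_b, T_a, T_b, T_a, T_bi, T_a, T_bi, T_a, T_b, T_a, T_bi, T_a, T_b, T_a, T_bi, T_a, T_b, T_a, T_bi, T_a, T_b, T_a, T_bi, T_a, T_b, T_a, T_bi, T_a, T_b, T_a, T_bi, T_a, T_bi, T_a, T_b, T_a, T_b, T_a, T_bi, T_a, T_bi] M (Nat.sub (T_a u) (Nat.mod (T_a u) M)) (Nat.mod (T_a u) M) u) (Nat.ble (nat_lit 59) j)
noncomputable def dp_a_49 (j u : ℕ) : Bool :=
  Bool.rec (motive := fun _ => Bool) (lF [T_bi, T_a, T_bi, T_a, T_b, T_a, T_b, T_a, T_bi, T_a, T_bi, T_a, T_b, T_a, T_bi, T_a, T_b, T_a, T_bi, T_a, T_b, T_a, T_bi, T_a, T_b, T_a, T_bi, T_a, T_b, T_a, T_bi, T_a, T_b, T_a, T_bi, T_a, T_bi, T_a, T_b, T_a, T_b, T_a, T_bi, T_a, T_bi, T_a, T_b, T_a, T_bi, T_a, T_b, T_a, T_bi, T_a, T_b, T_a, T_bi, T_a, T_b, T_a, T_bi, T_a, T_b, T_a, T_bi, T_a, T_b] M (Nat.sub (T_a u) (Nat.mod (T_a u) M))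 (Nat.mod (T_a u) M) u) (dp_a_48 j u) (Nat.ble (nat_lit 58) j)
noncomputable def dp_a_50 (j u : ℕ) : Bool :=
  Bool.rec (motive := fun _ => Bool) (lS MG [T_b, T_a, T_bi, T_a, T_b, T_a, T_b, T_a, T_bi, T_a, T_bi, T_a, T_b, T_a, T_b, T_a, T_bi, T_a, T_b, T_a, T_bi, T_a, T_b, T_a, T_bi, T_a, T_b, T_a, T_bi, T_a, T_b, T_a, T_bi, T_a, T_b, T_a, T_bi, T_a, T_b, T_a, T_b, T_a, T_bi, T_a, T_bi, T_a, T_b, T_a, T_b, T_a, T_bi, T_a, T_b, T_a, T_bi, T_a, T_b, T_a, T_bi, T_a, T_b, T_a, T_bi, T_a, T_b, T_a, T_bi] M (Nat.sub (T_a u) (Nat.mod (T_a u) M)) (nat_lit 40) (Nat.mod (T_a u) M) u) (lS MG [T_b, T_a, T_b, T_a, T_bi, T_a, T_b, T_a, T_bi, T_a, T_b, T_a, T_bi, T_a, T_b, T_a, T_bi, T_a, T_b, T_a, T_bi, T_a, T_b, T_a, T_bi, T_a, T_b, T_a, T_b, T_a, T_bi, T_a, T_bi, T_a, T_b, T_a, T_b, T_a, T_bi,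 T_a, T_b, T_a, T_bi, T_a, T_b, T_a, T_bi, T_a, T_b, T_a, T_bi, T_a, T_b, T_a, T_bi, T_a, T_b, T_a, T_bi, T_a, T_b, T_a, T_b, T_a, T_bi, T_a, T_bi] M (Nat.sub (T_a u) (Nat.mod (T_a u) M)) (nat_lit 40) (Nat.mod (T_a u) M) u) (Nat.ble (nat_lit 62) j)
noncomputable def dp_a_51 (j u : ℕ) : Bool :=
  Bool.rec (motive := fun _ => Bool) (lF [T_bi, T_a, T_b, T_a, T_b, T_a, T_bi, T_a, T_bi, T_a, T_b, T_a, T_bi, T_a, T_b, T_a, T_bi, T_a, T_b, T_a, T_bi, T_a, T_b, T_a, T_bi, T_a, T_b, T_a, T_bi, T_a, T_b, T_a, T_bi, T_a, T_bi, T_a, T_b, T_a, T_b, T_a, T_bi, T_a, T_bi, T_a, T_b, T_a, T_bi, T_a, T_b, T_a, T_bi, T_a, T_b, T_a, T_bi, T_a, T_b, T_a, T_bi, T_a, T_b, T_a, T_bi, T_a, T_b, T_a, T_bi] M (Nat.sub (T_a u) (Nat.mod (T_a u) M)) (Nat.mod (T_a u) M) u) (dp_a_50 j u) (Nat.ble (nat_lit 61) j)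
noncomputable def dp_a_52 (j u : ℕ) : Bool :=
  Bool.rec (motive := fun _ => Bool) (dp_a_49 j u) (dp_a_51 j u) (Nat.ble (nat_lit 60) j)
noncomputable def dp_a_53 (j u : ℕ) : Bool :=
  Bool.rec (motive := fun _ => Bool) (dp_a_47 j u) (dp_a_52 j u) (Nat.ble (nat_lit 57) j)
noncomputable def dp_a_54 (j u : ℕ) : Bool :=
  Bool.rec (motive := fun _ => Bool) (lF [T_bi, T_a, T_b, T_a, T_bi, T_a, T_b, T_a, T_bi, T_a, T_b, T_a, T_bi, T_a, T_b, T_a, T_bi, T_a, T_b, T_a, T_bi, T_a, T_b, T_a, T_bi, T_a, T_bi, T_a, T_b, T_a, T_b, T_a, T_bi, T_a, T_bi, T_a, T_b, T_a, T_bi, T_a, T_b, T_a, T_bi, T_a, T_b, T_a, T_bi, T_a, T_b, T_a, T_bi, T_a, T_b, T_a, T_bi, T_a, T_b, T_a, T_bi, T_a, T_bi, T_a, T_b, T_a, T_b, T_a, T_bi] M (Nat.sub (T_a u) (Nat.mod (T_a u) M)) (Nat.mod (T_a u) M) u) (lS MG [T_bi,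 T_a, T_b, T_a, T_bi, T_a, T_b, T_a, T_bi, T_a, T_b, T_a, T_bi, T_a, T_b, T_a, T_bi, T_a, T_b, T_a, T_b, T_a, T_bi, T_a, T_bi, T_a, T_b, T_a, T_b, T_a, T_bi, T_a, T_b, T_a, T_bi, T_a, T_b, T_a, T_bi, T_a, T_b, T_a, T_bi, T_a, T_b, T_a, T_bi, T_a, T_b, T_a, T_bi, T_a, T_b, T_a, T_b, T_a, T_bi, T_a, T_bi, T_a, T_b, T_a, T_b, T_a, T_bi, T_a, T_b] M (Nat.sub (T_a u) (Nat.mod (T_a u) M)) (nat_lit 40) (Nat.mod (T_a u) M) u) (Nat.ble (nat_lit 65) j)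
noncomputable def dp_a_55 (j u : ℕ) : Bool :=
  Bool.rec (motive := fun _ => Bool) (lS MG [T_bi, T_a, T_b, T_a, T_bi, T_a, T_b, T_a, T_bi, T_a, T_b, T_a, T_bi, T_a, T_b, T_a, T_bi, T_a, T_bi, T_a, T_b, T_a, T_b, T_a, T_bi, T_a, T_bi, T_a, T_b, T_a, T_bi, T_a, T_b, T_a, T_bi, T_a, T_b, T_a, T_bi, T_a, T_b, T_a, T_bi, T_a, T_b, T_a, T_bi, T_a, T_b, T_a, T_bi, T_a, T_bi, T_a, T_b, T_a, T_b, T_a, T_bi, T_a, T_bi, T_a, T_b, T_a, T_bi, T_a, T_b] M (Nat.sub (T_a u) (Nat.mod (T_a u) M)) (nat_lit 40) (Nat.mod (T_a u) M) u) (dp_a_54 j u) (Nat.ble (nat_lit 64) j)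
noncomputable def dp_a_56 (j u : ℕ) : Bool :=
  Bool.rec (motive := fun _ => Bool) (lF [T_b, T_a, T_bi, T_a, T_bi, T_a, T_b, T_a, T_bi, T_a, T_b, T_a, T_bi, T_a, T_b, T_a, T_bi, T_a, T_b, T_a, T_bi, T_a, T_b, T_a, T_bi, T_a, T_b, T_a, T_bi, T_a, T_bi, T_a, T_b, T_a, T_b, T_a, T_bi, T_a, T_bi, T_a, T_b, T_a, T_bi, T_a, T_b, T_a, T_bi, T_a, T_b, T_a, T_bi, T_a, T_b, T_a, T_bi, T_a, T_b, T_a, T_bi, T_a, T_b, T_a, T_bi, T_a, T_bi, T_a, T_b] M (Nat.sub (T_a u) (Nat.mod (T_a u) M)) (Nat.mod (T_a u) M) u) (lF [T_bi, T_a, T_b, T_a, T_bi, T_a, T_b, T_a, T_bi, T_a, T_b, T_a, T_b, T_a, T_bi, T_a, T_b, T_a, T_bi, T_a, T_b, T_a, T_bi, T_a, T_b, T_a, T_b, T_a, T_bi, T_a, T_b, T_a, T_bi, T_a, T_b, T_a, T_bi, T_a, T_b, T_a, T_b, T_a, T_bi, T_a, T_b, T_a, T_bi, T_a, T_b, T_a, T_bi, T_a, T_b, T_a,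 T_b, T_a, T_bi, T_a, T_b, T_a, T_bi, T_a, T_b, T_a, T_bi, T_a, T_b, T_a, T_b] M (Nat.sub (T_a u) (Nat.mod (T_a u) M)) (Nat.mod (T_a u) M) u) (Nat.ble (nat_lit 67) j)
noncomputable def dp_a_57 (j u : ℕ) : Bool :=
  Bool.rec (motive := fun _ => Bool) (lF [T_b, T_a, T_bi, T_a, T_bi, T_a, T_b, T_a, T_bi, T_a, T_b, T_a, T_bi, T_a, T_b, T_a, T_bi, T_a, T_bi, T_a, T_b, T_a, T_bi, T_a, T_b, T_a, T_bi, T_a, T_b, T_a, T_bi, T_a, T_bi, T_a, T_b, T_a, T_bi, T_a, T_b, T_a, T_bi, T_a, T_b, T_a, T_bi, T_a, T_bi, T_a, T_b, T_a, T_bi, T_a, T_b, T_a, T_bi, T_a, T_b, T_a, T_bi, T_a, T_bi, T_a, T_b, T_a, T_bi, T_a, T_b, T_a, T_bi] M (Nat.sub (T_a u) (Nat.mod (T_a u) M)) (Nat.mod (T_a u) M) u) (lF [T_bi, T_a, T_b, T_a, T_bi, T_a, T_b, T_a, T_bi, T_a, T_bi, T_a, T_b, T_a, T_bi, T_a, T_b, T_a, T_bi, T_a,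 T_b, T_a, T_bi, T_a, T_bi, T_a, T_b, T_a, T_bi, T_a, T_b, T_a, T_bi, T_a, T_b, T_a, T_bi, T_a, T_bi, T_a, T_b, T_a, T_bi, T_a, T_b, T_a, T_bi, T_a, T_b, T_a, T_bi, T_a, T_bi, T_a, T_b, T_a, T_bi, T_a, T_b, T_a, T_bi, T_a, T_b, T_a, T_bi, T_a, T_bi, T_a, T_b] M (Nat.sub (T_a u) (Nat.mod (T_a u) M)) (Nat.mod (T_a u) M) u) (Nat.ble (nat_lit 70) j)
noncomputable def dp_a_58 (j u : ℕ) : Bool :=
  Bool.rec (motive := fun _ => Bool) (lF [T_b, T_a, T_b, T_a, T_bi, T_a, T_b, T_a, T_bi, T_a, T_b, T_a, T_bi, T_a, T_b, T_a, T_b, T_a, T_bi, T_a, T_b, T_a, T_bi, T_a, T_b, T_a, T_bi, T_a, T_b, T_a, T_b, T_a, T_bi, T_a, T_b, T_a, T_bi, T_a, T_b, T_a, T_bi, T_a, T_b, T_a, T_b, T_a, T_bi, T_a, T_b, T_a, T_bi, T_a, T_b, T_a, T_bi, T_a, T_b, T_a, T_b, T_a, T_bi, T_a, T_b, T_a, T_bi, T_a, T_b, T_a,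 T_bi] M (Nat.sub (T_a u) (Nat.mod (T_a u) M)) (Nat.mod (T_a u) M) u) (dp_a_57 j u) (Nat.ble (nat_lit 69) j)
noncomputable def dp_a_59 (j u : ℕ) : Bool :=
  Bool.rec (motive := fun _ => Bool) (dp_a_56 j u) (dp_a_58 j u) (Nat.ble (nat_lit 68) j)
noncomputable def dp_a_60 (j u : ℕ) : Bool :=
  Bool.rec (motive := fun _ => Bool) (dp_a_55 j u) (dp_a_59 j u) (Nat.ble (nat_lit 66) j)
noncomputable def dp_a_61 (j u : ℕ) : Bool :=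
  Bool.rec (motive := fun _ => Bool) (lF [T_bi, T_a, T_b, T_a, T_bi, T_a, T_b, T_a, T_b, T_a, T_bi, T_a, T_b, T_a, T_bi, T_a, T_b, T_a, T_bi, T_a, T_b, T_a, T_b, T_a, T_bi, T_a, T_b, T_a, T_bi, T_a, T_b, T_a, T_bi, T_a, T_b, T_a, T_b, T_a, T_bi, T_a, T_b, T_a, T_bi, T_a, T_b, T_a, T_bi, T_a, T_b, T_a, T_b, T_a, T_bi, T_a, T_b, T_a, T_bi, T_a, T_b, T_a, T_bi, T_a, T_b, T_a, T_b, T_a, T_bi, T_a, T_b] M (Nat.sub (T_a u) (Nat.mod (T_a u) M)) (Nat.mod (T_a u) M) u) (lF [T_b, T_a, T_bi, T_a, T_b, T_a, T_bi, T_a, T_b, T_a, T_bi, T_a, T_b, T_a, T_b, T_a, T_bi, T_a, T_b, T_a, T_bi, T_a, T_b, T_a, T_bi, T_a, T_b, T_a, T_b, T_a, T_bi, T_a, T_b, T_a, T_bi, T_a, T_b, T_a, T_bi, T_a, T_b, T_a, T_b, T_a, T_bi, T_a, T_b, T_a, T_bi, T_a, T_b, T_a, T_bi, T_a, T_b, T_a, T_b, T_a, T_bi, T_a, T_b, T_a,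 T_bi, T_a, T_b, T_a, T_bi, T_a, T_b] M (Nat.sub (T_a u) (Nat.mod (T_a u) M)) (Nat.mod (T_a u) M) u) (Nat.ble (nat_lit 73) j)
noncomputable def dp_a_62 (j u : ℕ) : Bool :=
  Bool.rec (motive := fun _ => Bool) (lF [T_b, T_a, T_bi, T_a, T_b, T_a, T_b, T_a, T_bi, T_a, T_b, T_a, T_bi, T_a, T_b, T_a, T_bi, T_a, T_b, T_a, T_b, T_a, T_bi, T_a, T_b, T_a, T_bi, T_a, T_b, T_a, T_bi, T_a, T_b, T_a, T_b, T_a, T_bi, T_a, T_b, T_a, T_bi, T_a, T_b, T_a, T_bi, T_a, T_b, T_a, T_b, T_a, T_bi, T_a, T_b, T_a, T_bi, T_a, T_b, T_a, T_bi, T_a, T_b, T_a, T_b, T_a, T_bi, T_a, T_b, T_a, T_bi] M (Nat.sub (T_a u) (Nat.mod (T_a u) M)) (Nat.mod (T_a u) M) u) (dp_a_61 j u) (Nat.ble (nat_lit 72) j)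
noncomputable def dp_a_63 (j u : ℕ) : Bool :=
  Bool.rec (motive := fun _ => Bool) (lF [T_bi, T_a, T_bi, T_a, T_b, T_a, T_bi, T_a, T_b, T_a, T_bi, T_a, T_b, T_a, T_bi, T_a, T_bi, T_a, T_b, T_a, T_bi, T_a, T_b, T_a, T_bi, T_a, T_b, T_a, T_bi, T_a, T_bi, T_a, T_b, T_a, T_bi, T_a, T_b, T_a, T_bi, T_a, T_b, T_a, T_bi, T_a, T_bi, T_a, T_b, T_a, T_bi, T_a, T_b, T_a, T_bi, T_a, T_b, T_a, T_bi, T_a, T_bi, T_a, T_b, T_a, T_bi, T_a, T_b, T_a, T_bi, T_a, T_b] M (Nat.sub (T_a u) (Nat.mod (T_a u) M)) (Nat.mod (T_a u) M) u) (lF [T_b, T_a, T_bi, T_a, T_b, T_a, T_bi, T_a, T_b, T_a, T_bi, T_a, T_bi, T_a, T_b, T_a, T_bi, T_a, T_b, T_a, T_bi, T_a, T_b, T_a, T_bi, T_a, T_bi, T_a, T_b, T_a, T_bi, T_a, T_b, T_a, T_bi, T_a, T_b, T_a, T_bi, T_a, T_bi, T_a, T_b, T_a, T_bi, T_a, T_b, T_a, T_bi, T_a, T_b,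 T_a, T_bi, T_a, T_bi, T_a, T_b, T_a, T_bi, T_a, T_b, T_a, T_bi, T_a, T_b, T_a, T_bi, T_a, T_bi] M (Nat.sub (T_a u) (Nat.mod (T_a u) M)) (Nat.mod (T_a u) M) u) (Nat.ble (nat_lit 76) j)
noncomputable def dp_a_64 (j u : ℕ) : Bool :=
  Bool.rec (motive := fun _ => Bool) (lF [T_bi, T_a, T_b, T_a, T_bi, T_a, T_bi, T_a, T_b, T_a, T_bi, T_a, T_b, T_a, T_bi, T_a, T_b, T_a, T_bi, T_a, T_bi, T_a, T_b, T_a, T_bi, T_a, T_b, T_a, T_bi, T_a, T_b, T_a, T_bi, T_a, T_bi, T_a, T_b, T_a, T_bi, T_a, T_b, T_a, T_bi, T_a, T_b, T_a, T_bi, T_a, T_bi, T_a, T_b, T_a, T_bi, T_a, T_b, T_a, T_bi, T_a, T_b, T_a, T_bi, T_a, T_bi, T_a, T_b, T_a, T_bi, T_a, T_b] M (Nat.sub (T_a u) (Nat.mod (T_a u) M)) (Nat.mod (T_a u) M) u) (dp_a_63 j u) (Nat.ble (nat_lit 75) j)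
noncomputable def dp_a_65 (j u : ℕ) : Bool :=
  Bool.rec (motive := fun _ => Bool) (dp_a_62 j u) (dp_a_64 j u) (Nat.ble (nat_lit 74) j)
noncomputable def dp_a_66 (j u : ℕ) : Bool :=
  Bool.rec (motive := fun _ => Bool) (lS MG [T_bi, T_a, T_b, T_a, T_bi, T_a, T_b, T_a, T_bi, T_a, T_b, T_a, T_bi, T_a, T_bi, T_a, T_b, T_a, T_b, T_a, T_bi, T_a, T_bi, T_a, T_b, T_a, T_bi, T_a, T_b, T_a, T_bi, T_a, T_b, T_a, T_bi, T_a, T_b, T_a, T_bi, T_a, T_b, T_a, T_bi, T_a, T_b, T_a, T_bi, T_a, T_bi, T_a, T_b, T_a, T_b, T_a, T_bi, T_a, T_bi, T_a, T_b, T_a, T_bi, T_a, T_b, T_a, T_bi, T_a, T_b] M (Nat.sub (T_a u) (Nat.mod (T_a u) M)) (nat_lit 40) (Nat.mod (T_a u) M) u) (lS MG [T_bi, T_a, T_bi, T_a, T_b, T_a, T_b, T_a, T_bi, T_a, T_bi, T_a, T_b, T_a, T_bi, T_a, T_b, T_a, T_bi, T_a, T_b, T_a, T_bi, T_a,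 T_b, T_a, T_bi, T_a, T_b, T_a, T_bi, T_a, T_b, T_a, T_bi, T_a, T_bi, T_a, T_b, T_a, T_b, T_a, T_bi, T_a, T_bi, T_a, T_b, T_a, T_bi, T_a, T_b, T_a, T_bi, T_a, T_b, T_a, T_bi, T_a, T_b, T_a, T_bi, T_a, T_b, T_a, T_bi, T_a, T_b] M (Nat.sub (T_a u) (Nat.mod (T_a u) M)) (nat_lit 40) (Nat.mod (T_a u) M) u) (Nat.ble (nat_lit 79) j)
noncomputable def dp_a_67 (j u : ℕ) : Bool :=
  Bool.rec (motive := fun _ => Bool) (lS MG [T_b, T_a, T_bi, T_a, T_b, T_a, T_bi, T_a, T_b, T_a, T_bi, T_a, T_b, T_a, T_b, T_a, T_bi, T_a, T_bi, T_a, T_b, T_a, T_b, T_a, T_bi, T_a, T_b, T_a, T_bi, T_a, T_b, T_a, T_bi, T_a, T_b, T_a, T_bi, T_a, T_b, T_a, T_bi, T_a, T_b, T_a, T_bi, T_a, T_b, T_a, T_b, T_a, T_bi, T_a, T_bi, T_a, T_b, T_a, T_b, T_a, T_bi, T_a, T_b, T_a, T_bi, T_a, T_b, T_a, T_bi] M (Nat.sub (T_a u) (Nat.mod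 (T_a u) M)) (nat_lit 40) (Nat.mod (T_a u) M) u) (dp_a_66 j u) (Nat.ble (nat_lit 78) j)
noncomputable def dp_a_68 (j u : ℕ) : Bool :=
  Bool.rec (motive := fun _ => Bool) (lS MG [T_b, T_a, T_b, T_a, T_bi, T_a, T_bi, T_a, T_b, T_a, T_b, T_a, T_bi, T_a, T_b, T_a, T_bi, T_a, T_b, T_a, T_bi, T_a, T_b, T_a, T_bi, T_a, T_b, T_a, T_bi, T_a, T_b, T_a, T_bi, T_a, T_b, T_a, T_b, T_a, T_bi, T_a, T_bi, T_a, T_b, T_a, T_b, T_a, T_bi, T_a, T_b, T_a, T_bi, T_a, T_b, T_a, T_bi, T_a, T_b, T_a, T_bi, T_a, T_b, T_a, T_bi, T_a, T_b, T_a, T_bi] M (Nat.sub (T_a u) (Nat.mod (T_a u) M)) (nat_lit 40) (Nat.mod (T_a u) M) u) (lS MG [T_b, T_a, T_bi, T_a, T_b, T_a, T_bi, T_a, T_b, T_a, T_bi, T_a, T_b, T_a, T_bi, T_a, T_b, T_a, T_bi, T_a, T_b, T_a, T_bi, T_a, T_bi, T_a, T_b, T_a, T_b, T_a, T_bi, T_a, T_bi, T_a,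 T_b, T_a, T_bi, T_a, T_b, T_a, T_bi, T_a, T_b, T_a, T_bi, T_a, T_b, T_a, T_bi, T_a, T_b, T_a, T_bi, T_a, T_b, T_a, T_bi, T_a, T_bi, T_a, T_b, T_a, T_b, T_a, T_bi, T_a, T_bi] M (Nat.sub (T_a u) (Nat.mod (T_a u) M)) (nat_lit 40) (Nat.mod (T_a u) M) u) (Nat.ble (nat_lit 82) j)
noncomputable def dp_a_69 (j u : ℕ) : Bool :=
  Bool.rec (motive := fun _ => Bool) (lS MG [T_bi, T_a, T_bi, T_a, T_b, T_a, T_b, T_a, T_bi, T_a, T_b, T_a, T_bi, T_a, T_b, T_a, T_bi, T_a, T_b, T_a, T_bi, T_a, T_b, T_a, T_bi, T_a, T_b, T_a, T_bi, T_a, T_b, T_a, T_b, T_a, T_bi, T_a, T_bi, T_a, T_b, T_a, T_b, T_a, T_bi, T_a, T_b, T_a, T_bi, T_a, T_b, T_a, T_bi, T_a, T_b, T_a, T_bi, T_a, T_b, T_a, T_bi, T_a, T_b, T_a, T_bi, T_a, T_b, T_a, T_b] M (Nat.sub (T_a u) (Nat.mod (T_a u) M)) (nat_lit 40) (Nat.mod (T_a u) M)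 u) (dp_a_68 j u) (Nat.ble (nat_lit 81) j)
noncomputable def dp_a_70 (j u : ℕ) : Bool :=
  Bool.rec (motive := fun _ => Bool) (dp_a_67 j u) (dp_a_69 j u) (Nat.ble (nat_lit 80) j)
noncomputable def dp_a_71 (j u : ℕ) : Bool :=
  Bool.rec (motive := fun _ => Bool) (dp_a_65 j u) (dp_a_70 j u) (Nat.ble (nat_lit 77) j)
noncomputable def dp_a_72 (j u : ℕ) : Bool :=
  Bool.rec (motive := fun _ => Bool) (dp_a_60 j u) (dp_a_71 j u) (Nat.ble (nat_lit 71) j)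
noncomputable def dp_a_73 (j u : ℕ) : Bool :=
  Bool.rec (motive := fun _ => Bool) (dp_a_53 j u) (dp_a_72 j u) (Nat.ble (nat_lit 63) j)
noncomputable def dp_a_74 (j u : ℕ) : Bool :=
  Bool.rec (motive := fun _ => Bool) (dp_a_43 j u) (dp_a_73 j u) (Nat.ble (nat_lit 52) j)
noncomputable def dp_a_75 (j u : ℕ) : Bool :=
  Bool.rec (motive := fun _ => Bool) (dp_a_29 j u) (dp_a_74 j u) (Nat.ble (nat_lit 37) j)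
noncomputable def dp_a_76 (j u : ℕ) : Bool :=
  Bool.rec (motive := fun _ => Bool) (dp_a_11 j u) (dp_a_75 j u) (Nat.ble (nat_lit 18) j)
noncomputable def dp_a_77 (j u : ℕ) : Bool :=
  Bool.rec (motive := fun _ => Bool) (lF [T_b, T_a, T_b, T_a, T_b, T_a, T_b, T_a, T_b, T_a, T_b, T_a, T_b] M (Nat.sub (T_a u) (Nat.mod (T_a u) M)) (Nat.mod (T_a u) M) u) (dp_a_76 j u) (Nat.ble (nat_lit 5) j)
noncomputable def dp_a_78 (j u : ℕ) : Bool :=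
  Bool.rec (motive := fun _ => Bool) (lF [T_bi, T_a, T_bi, T_a, T_bi, T_a, T_bi, T_a, T_bi, T_a, T_bi, T_a, T_bi] M (Nat.sub (T_a u) (Nat.mod (T_a u) M)) (Nat.mod (T_a u) M) u) (dp_a_77 j u) (Nat.ble (nat_lit 4) j)
noncomputable def dp_a_79 (j u : ℕ) : Bool :=
  Bool.rec (motive := fun _ => Bool) (lF1 T_a M (Nat.sub (T_a u) (Nat.mod (T_a u) M)) (Nat.mod (T_a u) M) u) (dp_a_78 j u) (Nat.ble (nat_lit 3) j)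
noncomputable def disp_a (j u : ℕ) : Bool :=
  Bool.rec (motive := fun _ => Bool) (lDef P (nat_lit 0) (Nat.mod (T_a u) M) u) (Bool.rec (motive := fun _ => Bool) (lDef P (nat_lit 0) u (Nat.mod (T_a u) M)) (dp_a_79 j u) (Nat.ble (nat_lit 2) j)) (Nat.ble (nat_lit 1) j)
noncomputable def chk_a (j u : ℕ) : Bool :=
  Bool.rec (motive := fun _ => Bool) (disp_a j u) (Nat.ble (Nat.succ (MG u)) A) (Nat.ble A (T_a u))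
noncomputable def dp_b_0 (j u : ℕ) : Bool :=
  Bool.rec (motive := fun _ => Bool) (lS MG [T_a, T_b, T_a, T_b, T_a, T_b, T_a, T_b, T_a, T_b, T_a, T_b, T_a] M (Nat.sub (T_b u) (Nat.mod (T_b u) M)) (nat_lit 40) (Nat.mod (T_b u) M) u) (lS MG [T_bi] M (Nat.sub (T_b u) (Nat.mod (T_b u) M)) (nat_lit 40) (Nat.mod (T_b u) M) u) (Nat.ble (nat_lit 6) j)
noncomputable def dp_b_1 (j u : ℕ) : Bool :=
  Bool.rec (motive := fun _ => Bool) (lF [T_a, T_bi, T_a, T_b, T_a, T_bi, T_a, T_b, T_a, T_bi, T_a, T_b, T_a, T_bi, T_a, T_b, T_a, T_b, T_a, T_bi, T_a, T_bi, T_a, T_b, T_a, T_b, T_a, T_bi, T_a, T_b, T_a, T_bi, T_a, T_b, T_a, T_bi, T_a, T_b, T_a, T_bi, T_a, T_b, T_a, T_bi, T_a, T_b, T_a, T_bi, T_a, T_b, T_a, T_b, T_a, T_bi, T_a, T_bi, T_a, T_b, T_a, T_b, T_a, T_bi, T_a, T_b, T_a, T_bi, T_a] M (Nat.sub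 (T_b u) (Nat.mod (T_b u) M)) (Nat.mod (T_b u) M) u) (lF [T_a, T_bi, T_a, T_b, T_a, T_bi, T_a, T_b, T_a, T_bi, T_a, T_b, T_a, T_bi, T_a, T_b, T_a, T_bi, T_a, T_bi, T_a, T_b, T_a, T_b, T_a, T_bi, T_a, T_bi, T_a, T_b, T_a, T_bi, T_a, T_b, T_a, T_bi, T_a, T_b, T_a, T_bi, T_a, T_b, T_a, T_bi, T_a, T_b, T_a, T_bi, T_a, T_b, T_a, T_bi, T_a, T_bi, T_a, T_b, T_a, T_b, T_a, T_bi, T_a, T_bi, T_a, T_b, T_a, T_bi, T_a] M (Nat.sub (T_b u) (Nat.mod (T_b u) M)) (Nat.mod (T_b u) M) u) (Nat.ble (nat_lit 8) j)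
noncomputable def dp_b_2 (j u : ℕ) : Bool :=
  Bool.rec (motive := fun _ => Bool) (lF [T_a, T_bi, T_a, T_b, T_a, T_b, T_a, T_bi, T_a, T_bi, T_a, T_b, T_a, T_b, T_a, T_bi, T_a, T_b, T_a, T_bi, T_a, T_b, T_a, T_bi, T_a, T_b, T_a, T_bi, T_a, T_b, T_a, T_bi, T_a, T_b, T_a, T_bi, T_a, T_b, T_a, T_b, T_a, T_bi, T_a, T_bi, T_a, T_b, T_a, T_b, T_a, T_bi, T_a, T_b, T_a, T_bi, T_a, T_b, T_a, T_bi, T_a, T_b, T_a, T_bi, T_a, T_b, T_a, T_bi, T_a] M (Nat.sub (T_b u) (Nat.mod (T_b u) M)) (Nat.mod (T_b u) M) u) (lF [T_a, T_bi, T_a, T_b, T_a, T_bi, T_a, T_b, T_a, T_bi, T_a, T_bi, T_a, T_b, T_a, T_b, T_a, T_bi, T_a, T_bi, T_a, T_b, T_a, T_bi, T_a, T_b, T_a, T_bi, T_a, T_b, T_a, T_bi, T_a, T_b, T_a, T_bi, T_a, T_b, T_a, T_bi, T_a, T_b, T_a, T_bi, T_a, T_bi, T_a, T_b, T_a, T_b, T_a, T_bi, T_a, T_bi,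 T_a, T_b, T_a, T_bi, T_a, T_b, T_a, T_bi, T_a, T_b, T_a, T_bi, T_a] M (Nat.sub (T_b u) (Nat.mod (T_b u) M)) (Nat.mod (T_b u) M) u) (Nat.ble (nat_lit 10) j)
noncomputable def dp_b_3 (j u : ℕ) : Bool :=
  Bool.rec (motive := fun _ => Bool) (dp_b_1 j u) (dp_b_2 j u) (Nat.ble (nat_lit 9) j)
noncomputable def dp_b_4 (j u : ℕ) : Bool :=
  Bool.rec (motive := fun _ => Bool) (dp_b_0 j u) (dp_b_3 j u) (Nat.ble (nat_lit 7) j)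
noncomputable def dp_b_5 (j u : ℕ) : Bool :=
  Bool.rec (motive := fun _ => Bool) (lF [T_a, T_bi, T_a, T_b, T_a, T_bi, T_a, T_b, T_a, T_bi, T_a, T_b, T_a, T_b, T_a, T_bi, T_a, T_bi, T_a, T_b, T_a, T_b, T_a, T_bi, T_a, T_b, T_a, T_bi, T_a, T_b, T_a, T_bi, T_a, T_b, T_a, T_bi, T_a, T_b, T_a, T_bi, T_a, T_b, T_a, T_bi, T_a, T_b, T_a, T_b, T_a, T_bi, T_a, T_bi, T_a, T_b, T_a, T_b, T_a, T_bi, T_a, T_b, T_a, T_bi, T_a, T_b, T_a, T_bi, T_a] M (Nat.sub (T_b u) (Nat.mod (T_b u) M)) (Nat.mod (T_b u) M) u) (lF [T_a, T_bi, T_a, T_b, T_a, T_bi, T_a, T_b, T_a, T_bi, T_a, T_b, T_a, T_bi, T_a, T_bi, T_a, T_b, T_a, T_b, T_a, T_bi, T_a, T_bi, T_a, T_b, T_a, T_bi, T_a, T_b, T_a, T_bi, T_a, T_b, T_a, T_bi, T_a, T_b, T_a, T_bi, T_a, T_b, T_a, T_bi, T_a, T_b, T_a, T_bi, T_a, T_bi, T_a, T_b, T_a, T_b,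 T_a, T_bi, T_a, T_bi, T_a, T_b, T_a, T_bi, T_a, T_b, T_a, T_bi, T_a] M (Nat.sub (T_b u) (Nat.mod (T_b u) M)) (Nat.mod (T_b u) M) u) (Nat.ble (nat_lit 13) j)
noncomputable def dp_b_6 (j u : ℕ) : Bool :=
  Bool.rec (motive := fun _ => Bool) (lF [T_a, T_bi, T_a, T_b, T_a, T_bi, T_a, T_b, T_a, T_bi, T_a, T_b, T_a, T_bi, T_a, T_b, T_a, T_bi, T_a, T_b, T_a, T_b, T_a, T_bi, T_a, T_bi, T_a, T_b, T_a, T_b, T_a, T_bi, T_a, T_b, T_a, T_bi, T_a, T_b, T_a, T_bi, T_a, T_b, T_a, T_bi, T_a, T_b, T_a, T_bi, T_a, T_b, T_a, T_bi, T_a, T_b, T_a, T_b, T_a, T_bi, T_a, T_bi, T_a, T_b, T_a, T_b, T_a, T_bi, T_a] M (Nat.sub (T_b u) (Nat.mod (T_b u) M)) (Nat.mod (T_b u) M) u) (dp_b_5 j u) (Nat.ble (nat_lit 12) j)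
noncomputable def dp_b_7 (j u : ℕ) : Bool :=
  Bool.rec (motive := fun _ => Bool) (lF [T_a, T_b, T_a, T_bi, T_a, T_bi, T_a, T_b, T_a, T_b, T_a, T_bi, T_a, T_b, T_a, T_bi, T_a, T_b, T_a, T_bi, T_a, T_b, T_a, T_bi, T_a, T_b, T_a, T_bi, T_a, T_b, T_a, T_bi, T_a, T_b, T_a, T_b, T_a, T_bi, T_a, T_bi, T_a, T_b, T_a, T_b, T_a, T_bi, T_a, T_b, T_a, T_bi, T_a, T_b, T_a, T_bi, T_a, T_b, T_a, T_bi, T_a, T_b, T_a, T_bi, T_a, T_b, T_a, T_bi, T_a] M (Nat.sub (T_b u) (Nat.mod (T_b u) M)) (Nat.mod (T_b u) M) u) (lF [T_a, T_bi, T_a, T_b, T_a, T_bi, T_a, T_b, T_a, T_b, T_a, T_bi, T_a, T_bi, T_a, T_b, T_a, T_b, T_a, T_bi, T_a, T_b, T_a, T_bi, T_a, T_b, T_a, T_bi, T_a, T_b, T_a, T_bi, T_a, T_b, T_a, T_bi, T_a, T_b, T_a, T_bi, T_a, T_b, T_a, T_b, T_a, T_bi, T_a, T_bi, T_a, T_b, T_a, T_b, T_a, T_bi,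 T_a, T_b, T_a, T_bi, T_a, T_b, T_a, T_bi, T_a, T_b, T_a, T_bi, T_a] M (Nat.sub (T_b u) (Nat.mod (T_b u) M)) (Nat.mod (T_b u) M) u) (Nat.ble (nat_lit 16) j)
noncomputable def dp_b_8 (j u : ℕ) : Bool :=
  Bool.rec (motive := fun _ => Bool) (lF [T_a, T_bi, T_a, T_b, T_a, T_bi, T_a, T_bi, T_a, T_b, T_a, T_b, T_a, T_bi, T_a, T_bi, T_a, T_b, T_a, T_bi, T_a, T_b, T_a, T_bi, T_a, T_b, T_a, T_bi, T_a, T_b, T_a, T_bi, T_a, T_b, T_a, T_bi, T_a, T_b, T_a, T_bi, T_a, T_bi, T_a, T_b, T_a, T_b, T_a, T_bi, T_a, T_bi, T_a, T_b, T_a, T_bi, T_a, T_b, T_a, T_bi, T_a, T_b, T_a, T_bi, T_a, T_b, T_a, T_bi, T_a] M (Nat.sub (T_b u) (Nat.mod (T_b u) M)) (Nat.mod (T_b u) M) u) (dp_b_7 j u) (Nat.ble (nat_lit 15) j)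
noncomputable def dp_b_9 (j u : ℕ) : Bool :=
  Bool.rec (motive := fun _ => Bool) (dp_b_6 j u) (dp_b_8 j u) (Nat.ble (nat_lit 14) j)
noncomputable def dp_b_10 (j u : ℕ) : Bool :=
  Bool.rec (motive := fun _ => Bool) (lS MG [T_a, T_bi, T_a, T_b, T_a, T_bi, T_a, T_b, T_a, T_bi, T_a, T_b, T_a, T_bi, T_a, T_b, T_a, T_bi, T_a, T_b, T_a, T_b, T_a, T_bi, T_a, T_bi, T_a, T_b, T_a, T_b, T_a, T_bi, T_a, T_b, T_a, T_bi, T_a, T_b, T_a, T_bi, T_a, T_b, T_a, T_bi, T_a, T_b, T_a, T_bi, T_a, T_b, T_a, T_bi, T_a, T_b, T_a, T_b, T_a, T_bi, T_a, T_bi, T_a, T_b, T_a, T_b, T_a, T_bi, T_a] M (Nat.sub (T_b u) (Nat.mod (T_b u) M)) (nat_lit 40) (Nat.mod (T_b u) M) u) (lF [T_a, T_bi, T_a, T_b, T_a, T_bi, T_a, T_b, T_a, T_bi, T_a, T_b, T_a, T_bi, T_a, T_b, T_a, T_bi, T_a, T_b, T_a, T_bi, T_a, T_b, T_a, T_b,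 T_a, T_bi, T_a, T_bi, T_a, T_b, T_a, T_b, T_a, T_bi, T_a, T_b, T_a, T_bi, T_a, T_b, T_a, T_bi, T_a, T_b, T_a, T_bi, T_a, T_b, T_a, T_bi, T_a, T_b, T_a, T_bi, T_a, T_b, T_a, T_b, T_a, T_bi, T_a, T_bi, T_a, T_b, T_a] M (Nat.sub (T_b u) (Nat.mod (T_b u) M)) (Nat.mod (T_b u) M) u) (Nat.ble (nat_lit 18) j)
noncomputable def dp_b_11 (j u : ℕ) : Bool :=
  Bool.rec (motive := fun _ => Bool) (lF [T_a, T_bi, T_a, T_bi, T_a, T_b, T_a, T_b, T_a, T_bi, T_a, T_bi, T_a, T_b, T_a, T_bi, T_a, T_b, T_a, T_bi, T_a, T_b, T_a, T_bi, T_a, T_b, T_a, T_bi, T_a, T_b, T_a, T_bi, T_a, T_b, T_a, T_bi, T_a, T_bi, T_a, T_b, T_a, T_b, T_a, T_bi, T_a, T_bi, T_a, T_b, T_a, T_bi, T_a, T_b, T_a, T_bi, T_a, T_b, T_a, T_bi, T_a, T_b, T_a, T_bi, T_a, T_b, T_a, T_bi, T_a] M (Nat.sub (T_b u) (Nat.mod (T_b u) M)) (Nat.mod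 (T_b u) M) u) (lF [T_a, T_bi, T_a, T_b, T_a, T_bi, T_a, T_b, T_a, T_bi, T_a, T_b, T_a, T_bi, T_a, T_b, T_a, T_bi, T_a, T_b, T_a, T_bi, T_a, T_bi, T_a, T_b, T_a, T_b, T_a, T_bi, T_a, T_bi, T_a, T_b, T_a, T_bi, T_a, T_b, T_a, T_bi, T_a, T_b, T_a, T_bi, T_a, T_b, T_a, T_bi, T_a, T_b, T_a, T_bi, T_a, T_b, T_a, T_bi, T_a, T_bi, T_a, T_b, T_a, T_b, T_a, T_bi, T_a, T_bi, T_a] M (Nat.sub (T_b u) (Nat.mod (T_b u) M)) (Nat.mod (T_b u) M) u) (Nat.ble (nat_lit 21) j)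
noncomputable def dp_b_12 (j u : ℕ) : Bool :=
  Bool.rec (motive := fun _ => Bool) (lF [T_a, T_b, T_a, T_bi, T_a, T_bi, T_a, T_b, T_a, T_bi, T_a, T_b, T_a, T_bi, T_a, T_b, T_a, T_bi, T_a, T_b, T_a, T_bi, T_a, T_b, T_a, T_bi, T_a, T_b, T_a, T_bi, T_a, T_bi, T_a, T_b, T_a, T_b, T_a, T_bi, T_a, T_bi, T_a, T_b, T_a, T_bi, T_a, T_b, T_a, T_bi, T_a, T_b, T_a, T_bi, T_a, T_b, T_a, T_bi, T_a, T_b, T_a, T_bi, T_a, T_b, T_a, T_bi, T_a, T_bi, T_a] M (Nat.sub (T_b u) (Nat.mod (T_b u) M)) (Nat.mod (T_b u) M) u) (dp_b_11 j u) (Nat.ble (nat_lit 20) j)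
noncomputable def dp_b_13 (j u : ℕ) : Bool :=
  Bool.rec (motive := fun _ => Bool) (dp_b_10 j u) (dp_b_12 j u) (Nat.ble (nat_lit 19) j)
noncomputable def dp_b_14 (j u : ℕ) : Bool :=
  Bool.rec (motive := fun _ => Bool) (lS MG [T_a, T_bi, T_a, T_b, T_a, T_b, T_a, T_bi, T_a, T_bi, T_a, T_b, T_a, T_b, T_a, T_bi, T_a, T_b, T_a, T_bi, T_a, T_b, T_a, T_bi, T_a, T_b, T_a, T_bi, T_a, T_b, T_a, T_bi, T_a, T_b, T_a, T_bi, T_a, T_b, T_a, T_b, T_a, T_bi, T_a, T_bi, T_a, T_b, T_a, T_b, T_a, T_bi, T_a, T_b, T_a, T_bi, T_a, T_b, T_a, T_bi, T_a, T_b, T_a, T_bi, T_a, T_b, T_a, T_bi, T_a] M (Nat.sub (T_b u) (Nat.mod (T_b u) M)) (nat_lit 40) (Nat.mod (T_b u) M) u) (lS MG [T_a, T_bi, T_a, T_b, T_a, T_bi, T_a, T_b, T_a, T_bi, T_a, T_bi, T_a, T_b, T_a, T_b, T_a, T_bi, T_a, T_bi, T_a, T_b, T_a, T_bi,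 T_a, T_b, T_a, T_bi, T_a, T_b, T_a, T_bi, T_a, T_b, T_a, T_bi, T_a, T_b, T_a, T_bi, T_a, T_b, T_a, T_bi, T_a, T_bi, T_a, T_b, T_a, T_b, T_a, T_bi, T_a, T_bi, T_a, T_b, T_a, T_bi, T_a, T_b, T_a, T_bi, T_a, T_b, T_a, T_bi, T_a] M (Nat.sub (T_b u) (Nat.mod (T_b u) M)) (nat_lit 40) (Nat.mod (T_b u) M) u) (Nat.ble (nat_lit 23) j)
noncomputable def dp_b_15 (j u : ℕ) : Bool :=
  Bool.rec (motive := fun _ => Bool) (lS MG [T_a, T_bi, T_a, T_b, T_a, T_bi, T_a, T_b, T_a, T_bi, T_a, T_b, T_a, T_bi, T_a, T_b, T_a, T_bi, T_a, T_bi, T_a, T_b, T_a, T_b, T_a, T_bi, T_a, T_bi, T_a, T_b, T_a, T_bi, T_a, T_b, T_a, T_bi, T_a, T_b, T_a, T_bi, T_a, T_b, T_a, T_bi, T_a, T_b, T_a, T_bi, T_a, T_b, T_a, T_bi, T_a, T_bi, T_a, T_b, T_a, T_b, T_a, T_bi, T_a, T_bi, T_a, T_b, T_a, T_bi, T_a] M (Nat.sub (T_b u)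 (Nat.mod (T_b u) M)) (nat_lit 40) (Nat.mod (T_b u) M) u) (lF [T_a, T_b, T_a, T_bi, T_a, T_b, T_a, T_bi, T_a, T_b, T_a, T_bi, T_a, T_b, T_a, T_bi, T_a, T_b, T_a, T_bi, T_a, T_b, T_a, T_bi, T_a, T_b, T_a, T_b, T_a, T_bi, T_a, T_bi, T_a, T_b, T_a, T_b, T_a, T_bi, T_a, T_b, T_a, T_bi, T_a, T_b, T_a, T_bi, T_a, T_b, T_a, T_bi, T_a, T_b, T_a, T_bi, T_a, T_b, T_a, T_bi, T_a, T_b, T_a, T_b, T_a, T_bi, T_a, T_bi, T_a] M (Nat.sub (T_b u) (Nat.mod (T_b u) M)) (Nat.mod (T_b u) M) u) (Nat.ble (nat_lit 26) j)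
noncomputable def dp_b_16 (j u : ℕ) : Bool :=
  Bool.rec (motive := fun _ => Bool) (lF [T_a, T_bi, T_a, T_bi, T_a, T_b, T_a, T_bi, T_a, T_b, T_a, T_bi, T_a, T_b, T_a, T_bi, T_a, T_b, T_a, T_bi, T_a, T_b, T_a, T_bi, T_a, T_b, T_a, T_bi, T_a, T_bi, T_a, T_b, T_a, T_b, T_a, T_bi, T_a, T_bi, T_a, T_b, T_a, T_bi, T_a, T_b, T_a, T_bi, T_a, T_b, T_a, T_bi, T_a, T_b, T_a, T_bi, T_a, T_b, T_a, T_bi, T_a, T_b, T_a, T_bi, T_a, T_bi, T_a, T_b, T_a] M (Nat.sub (T_b u) (Nat.mod (T_b u) M)) (Nat.mod (T_b u) M) u) (dp_b_15 j u) (Nat.ble (nat_lit 25) j)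
noncomputable def dp_b_17 (j u : ℕ) : Bool :=
  Bool.rec (motive := fun _ => Bool) (dp_b_14 j u) (dp_b_16 j u) (Nat.ble (nat_lit 24) j)
noncomputable def dp_b_18 (j u : ℕ) : Bool :=
  Bool.rec (motive := fun _ => Bool) (lH [T_a] [] M (Nat.sub (T_b u) (Nat.mod (T_b u) M)) (Nat.mod (T_b u) M) u) (lF [T_a, T_bi, T_a, T_b, T_a, T_bi, T_a, T_bi, T_a, T_b, T_a, T_bi, T_a, T_b, T_a, T_bi, T_a, T_b, T_a, T_bi, T_a, T_bi, T_a, T_b, T_a, T_bi, T_a, T_b, T_a, T_bi, T_a, T_b, T_a, T_bi, T_a, T_bi, T_a, T_b, T_a, T_bi, T_a, T_b, T_a, T_bi, T_a, T_b, T_a, T_bi, T_a, T_bi, T_a, T_b, T_a, T_bi, T_a, T_b, T_a, T_bi, T_a, T_b, T_a, T_bi, T_a, T_bi, T_a, T_b, T_a, T_bi, T_a] M (Nat.sub (T_b u) (Nat.mod (T_b u) M)) (Nat.mod (T_b u) M) u) (Nat.ble (nat_lit 30) j)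
noncomputable def dp_b_19 (j u : ℕ) : Bool :=
  Bool.rec (motive := fun _ => Bool) (lS MG [T_a, T_bi, T_a, T_b, T_a, T_bi, T_a, T_b, T_a, T_b, T_a, T_bi, T_a, T_bi, T_a, T_b, T_a, T_b, T_a, T_bi, T_a, T_b, T_a, T_bi, T_a, T_b, T_a, T_bi, T_a, T_b, T_a, T_bi, T_a, T_b, T_a, T_bi, T_a, T_b, T_a, T_bi, T_a, T_b, T_a, T_b, T_a, T_bi, T_a, T_bi, T_a, T_b, T_a, T_b, T_a, T_bi, T_a, T_b, T_a, T_bi, T_a, T_b, T_a, T_bi, T_a, T_b, T_a, T_bi, T_a] M (Nat.sub (T_b u) (Nat.mod (T_b u) M)) (nat_lit 40) (Nat.mod (T_b u) M) u) (dp_b_18 j u) (Nat.ble (nat_lit 29) j)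
noncomputable def dp_b_20 (j u : ℕ) : Bool :=
  Bool.rec (motive := fun _ => Bool) (lS MG [T_a, T_bi, T_a, T_b, T_a, T_bi, T_a, T_b, T_a, T_bi, T_a, T_b, T_a, T_bi, T_a, T_b, T_a, T_bi, T_a, T_b, T_a, T_bi, T_a, T_bi, T_a, T_b, T_a, T_b, T_a, T_bi, T_a, T_bi, T_a, T_b, T_a, T_bi, T_a, T_b, T_a, T_bi, T_a, T_b, T_a, T_bi, T_a, T_b, T_a, T_bi, T_a, T_b, T_a, T_bi, T_a, T_b, T_a, T_bi, T_a, T_bi, T_a, T_b, T_a, T_b, T_a, T_bi, T_a, T_bi, T_a] M (Nat.sub (T_b u) (Nat.mod (T_b u) M)) (nat_lit 40) (Nat.mod (T_b u) M) u) (dp_b_19 j u) (Nat.ble (nat_lit 28) j)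
noncomputable def dp_b_21 (j u : ℕ) : Bool :=
  Bool.rec (motive := fun _ => Bool) (lS MG [T_a, T_bi, T_a, T_b, T_a, T_bi, T_a, T_b, T_a, T_bi, T_a, T_b, T_a, T_bi, T_a, T_b, T_a, T_bi, T_a, T_b, T_a, T_bi, T_a, T_b, T_a, T_b, T_a, T_bi, T_a, T_bi, T_a, T_b, T_a, T_b, T_a, T_bi, T_a, T_b, T_a, T_bi, T_a, T_b, T_a, T_bi, T_a, T_b, T_a, T_bi, T_a, T_b, T_a, T_bi, T_a, T_b, T_a, T_bi, T_a, T_b, T_a, T_b, T_a, T_bi, T_a, T_bi, T_a, T_b, T_a] M (Nat.sub (T_b u) (Nat.mod (T_b u) M)) (nat_lit 40) (Nat.mod (T_b u) M) u) (lS MG [T_a, T_bi, T_a, T_bi, T_a, T_b, T_a, T_bi, T_a, T_b, T_a, T_bi, T_a, T_b, T_a, T_bi, T_a, T_b, T_a, T_bi, T_a, T_b, T_a, T_bi, T_a, T_b, T_a, T_bi, T_a, T_bi, T_a, T_b, T_a, T_b, T_a, T_bi, T_a, T_bi, T_a, T_b, T_a, T_bi, T_a, T_b, T_a, T_bi, T_a, T_b, T_a, T_bi,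 T_a, T_b, T_a, T_bi, T_a, T_b, T_a, T_bi, T_a, T_b, T_a, T_bi, T_a, T_bi, T_a, T_b, T_a] M (Nat.sub (T_b u) (Nat.mod (T_b u) M)) (nat_lit 40) (Nat.mod (T_b u) M) u) (Nat.ble (nat_lit 33) j)
noncomputable def dp_b_22 (j u : ℕ) : Bool :=
  Bool.rec (motive := fun _ => Bool) (lS MG [T_a, T_b, T_a, T_bi, T_a, T_bi, T_a, T_b, T_a, T_bi, T_a, T_b, T_a, T_bi, T_a, T_b, T_a, T_bi, T_a, T_b, T_a, T_bi, T_a, T_b, T_a, T_bi, T_a, T_b, T_a, T_bi, T_a, T_bi, T_a, T_b, T_a, T_b, T_a, T_bi, T_a, T_bi, T_a, T_b, T_a, T_bi, T_a, T_b, T_a, T_bi, T_a, T_b, T_a, T_bi, T_a, T_b, T_a, T_bi, T_a, T_b, T_a, T_bi, T_a, T_b, T_a, T_bi, T_a, T_bi, T_a] M (Nat.sub (T_b u) (Nat.mod (T_b u) M)) (nat_lit 40) (Nat.mod (T_b u) M) u) (dp_b_21 j u) (Nat.ble (nat_lit 32) j)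
noncomputable def dp_b_23 (j u : ℕ) : Bool :=
  Bool.rec (motive := fun _ => Bool) (lS MG [T_a, T_bi, T_a, T_bi, T_a, T_b, T_a, T_b, T_a, T_bi, T_a, T_bi, T_a, T_b, T_a, T_bi, T_a, T_b, T_a, T_bi, T_a, T_b, T_a, T_bi, T_a, T_b, T_a, T_bi, T_a, T_b, T_a, T_bi, T_a, T_b, T_a, T_bi, T_a, T_bi, T_a, T_b, T_a, T_b, T_a, T_bi, T_a, T_bi, T_a, T_b, T_a, T_bi, T_a, T_b, T_a, T_bi, T_a, T_b, T_a, T_bi, T_a, T_b, T_a, T_bi, T_a, T_b, T_a, T_bi, T_a] M (Nat.sub (T_b u) (Nat.mod (T_b u) M)) (nat_lit 40) (Nat.mod (T_b u) M) u) (lS MG [T_a, T_bi, T_a, T_bi, T_a, T_b, T_a, T_b, T_a, T_bi, T_a, T_b, T_a, T_bi, T_a, T_b, T_a, T_bi, T_a, T_b, T_a, T_bi, T_a, T_b, T_a, T_bi, T_a, T_b, T_a, T_bi, T_a, T_b, T_a, T_b, T_a, T_bi, T_a, T_bi, T_a, T_b, T_a, T_b, T_a, T_bi, T_a, T_b, T_a, T_bi, T_a, T_b,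 T_a, T_bi, T_a, T_b, T_a, T_bi, T_a, T_b, T_a, T_bi, T_a, T_b, T_a, T_bi, T_a, T_b, T_a] M (Nat.sub (T_b u) (Nat.mod (T_b u) M)) (nat_lit 40) (Nat.mod (T_b u) M) u) (Nat.ble (nat_lit 35) j)
noncomputable def dp_b_24 (j u : ℕ) : Bool :=
  Bool.rec (motive := fun _ => Bool) (lS MG [T_a, T_b, T_a, T_bi, T_a, T_b, T_a, T_bi, T_a, T_b, T_a, T_bi, T_a, T_b, T_a, T_bi, T_a, T_b, T_a, T_bi, T_a, T_b, T_a, T_bi, T_a, T_b, T_a, T_b, T_a, T_bi, T_a, T_bi, T_a, T_b, T_a, T_b, T_a, T_bi, T_a, T_b, T_a, T_bi, T_a, T_b, T_a, T_bi, T_a, T_b, T_a, T_bi, T_a, T_b, T_a, T_bi, T_a, T_b, T_a, T_bi, T_a, T_b, T_a, T_b, T_a, T_bi, T_a, T_bi, T_a] M (Nat.sub (T_b u) (Nat.mod (T_b u) M)) (nat_lit 40) (Nat.mod (T_b u) M) u) (lS MG [T_a, T_bi, T_a, T_b, T_a, T_bi, T_a, T_bi, T_a, T_b, T_a, T_b, T_a, T_bi,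 T_a, T_bi, T_a, T_b, T_a, T_bi, T_a, T_b, T_a, T_bi, T_a, T_b, T_a, T_bi, T_a, T_b, T_a, T_bi, T_a, T_b, T_a, T_bi, T_a, T_b, T_a, T_bi, T_a, T_bi, T_a, T_b, T_a, T_b, T_a, T_bi, T_a, T_bi, T_a, T_b, T_a, T_bi, T_a, T_b, T_a, T_bi, T_a, T_b, T_a, T_bi, T_a, T_b, T_a, T_bi, T_a] M (Nat.sub (T_b u) (Nat.mod (T_b u) M)) (nat_lit 40) (Nat.mod (T_b u) M) u) (Nat.ble (nat_lit 37) j)
noncomputable def dp_b_25 (j u : ℕ) : Bool :=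
  Bool.rec (motive := fun _ => Bool) (dp_b_23 j u) (dp_b_24 j u) (Nat.ble (nat_lit 36) j)
noncomputable def dp_b_26 (j u : ℕ) : Bool :=
  Bool.rec (motive := fun _ => Bool) (dp_b_22 j u) (dp_b_25 j u) (Nat.ble (nat_lit 34) j)
noncomputable def dp_b_27 (j u : ℕ) : Bool :=
  Bool.rec (motive := fun _ => Bool) (dp_b_20 j u) (dp_b_26 j u) (Nat.ble (nat_lit 31) j)
noncomputable def dp_b_28 (j u : ℕ) : Bool :=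
  Bool.rec (motive := fun _ => Bool) (dp_b_17 j u) (dp_b_27 j u) (Nat.ble (nat_lit 27) j)
noncomputable def dp_b_29 (j u : ℕ) : Bool :=
  Bool.rec (motive := fun _ => Bool) (dp_b_13 j u) (dp_b_28 j u) (Nat.ble (nat_lit 22) j)
noncomputable def dp_b_30 (j u : ℕ) : Bool :=
  Bool.rec (motive := fun _ => Bool) (dp_b_9 j u) (dp_b_29 j u) (Nat.ble (nat_lit 17) j)
noncomputable def dp_b_31 (j u : ℕ) : Bool :=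
  Bool.rec (motive := fun _ => Bool) (dp_b_4 j u) (dp_b_30 j u) (Nat.ble (nat_lit 11) j)
noncomputable def dp_b_32 (j u : ℕ) : Bool :=
  Bool.rec (motive := fun _ => Bool) (lF [T_a, T_b, T_a, T_b, T_a, T_b, T_a, T_b, T_a, T_b, T_a, T_b, T_a] M (Nat.sub (T_b u) (Nat.mod (T_b u) M)) (Nat.mod (T_b u) M) u) (dp_b_31 j u) (Nat.ble (nat_lit 5) j)
noncomputable def dp_b_33 (j u : ℕ) : Bool :=
  Bool.rec (motive := fun _ => Bool) (lF1 T_bi M (Nat.sub (T_b u) (Nat.mod (T_b u) M)) (Nat.mod (T_b u) M) u) (dp_b_32 j u) (Nat.ble (nat_lit 4) j)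
noncomputable def dp_b_34 (j u : ℕ) : Bool :=
  Bool.rec (motive := fun _ => Bool) (lDef P (nat_lit 2) u (Nat.mod (T_b u) M)) (dp_b_33 j u) (Nat.ble (nat_lit 3) j)
noncomputable def disp_b (j u : ℕ) : Bool :=
  Bool.rec (motive := fun _ => Bool) (Bool.rec (motive := fun _ => Bool) (lDef P (nat_lit 1) (Nat.mod (T_b u) M) u) (lF [T_b, T_b] M (Nat.sub (T_b u) (Nat.mod (T_b u) M)) (Nat.mod (T_b u) M) u) (Nat.ble (nat_lit 1) j)) (dp_b_34 j u) (Nat.ble (nat_lit 2) j)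
noncomputable def chk_b (j u : ℕ) : Bool :=
  Bool.rec (motive := fun _ => Bool) (disp_b j u) (Nat.ble (Nat.succ (MG u)) A) (Nat.ble A (T_b u))
noncomputable def dp_bi_0 (j u : ℕ) : Bool :=
  Bool.rec (motive := fun _ => Bool) (lS MG [T_a, T_bi, T_a, T_bi, T_a, T_bi, T_a, T_bi, T_a, T_bi, T_a, T_bi, T_a] M (Nat.sub (T_bi u) (Nat.mod (T_bi u) M)) (nat_lit 40) (Nat.mod (T_bi u) M) u) (lS MG [T_b] M (Nat.sub (T_bi u) (Nat.mod (T_bi u) M)) (nat_lit 40) (Nat.mod (T_bi u) M) u) (Nat.ble (nat_lit 6) j)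
noncomputable def dp_bi_1 (j u : ℕ) : Bool :=
  Bool.rec (motive := fun _ => Bool) (lF [T_a, T_b, T_a, T_bi, T_a, T_b, T_a, T_bi, T_a, T_b, T_a, T_bi, T_a, T_b, T_a, T_bi, T_a, T_bi, T_a, T_b, T_a, T_b, T_a, T_bi, T_a, T_bi, T_a, T_b, T_a, T_bi, T_a, T_b, T_a, T_bi, T_a, T_b, T_a, T_bi, T_a, T_b, T_a, T_bi, T_a, T_b, T_a, T_bi, T_a, T_b, T_a, T_bi, T_a, T_bi, T_a, T_b, T_a, T_b, T_a, T_bi, T_a, T_bi, T_a, T_b, T_a, T_bi, T_a, T_b, T_a] M (Nat.sub (T_bi u) (Nat.mod (T_bi u) M)) (Nat.mod (T_bi u) M) u) (lF [T_a, T_b, T_a, T_bi, T_a, T_b, T_a, T_bi, T_a, T_b, T_a, T_bi, T_a, T_bi, T_a, T_b, T_a, T_b, T_a, T_bi, T_a, T_bi, T_a, T_b, T_a, T_bi, T_a, T_b, T_a, T_bi, T_a, T_b, T_a, T_bi, T_a, T_b, T_a, T_bi, T_a, T_b, T_a, T_bi, T_a, T_b, T_a, T_bi, T_a, T_bi, T_a, T_b, T_a, T_b, T_a,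 T_bi, T_a, T_bi, T_a, T_b, T_a, T_bi, T_a, T_b, T_a, T_bi, T_a, T_b, T_a] M (Nat.sub (T_bi u) (Nat.mod (T_bi u) M)) (Nat.mod (T_bi u) M) u) (Nat.ble (nat_lit 8) j)
noncomputable def dp_bi_2 (j u : ℕ) : Bool :=
  Bool.rec (motive := fun _ => Bool) (lF [T_a, T_b, T_a, T_bi, T_a, T_b, T_a, T_bi, T_a, T_bi, T_a, T_b, T_a, T_b, T_a, T_bi, T_a, T_bi, T_a, T_b, T_a, T_bi, T_a, T_b, T_a, T_bi, T_a, T_b, T_a, T_bi, T_a, T_b, T_a, T_bi, T_a, T_b, T_a, T_bi, T_a, T_b, T_a, T_bi, T_a, T_bi, T_a, T_b, T_a, T_b, T_a, T_bi, T_a, T_bi, T_a, T_b, T_a, T_bi, T_a, T_b, T_a, T_bi, T_a, T_b, T_a, T_bi, T_a, T_b, T_a] M (Nat.sub (T_bi u) (Nat.mod (T_bi u) M)) (Nat.mod (T_bi u) M) u) (lF [T_a, T_b, T_a, T_bi, T_a, T_b, T_a, T_bi, T_a, T_b, T_a, T_bi, T_a, T_b, T_a, T_bi, T_a, T_b, T_a, T_bi, T_a, T_b,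 T_a, T_b, T_a, T_bi, T_a, T_bi, T_a, T_b, T_a, T_b, T_a, T_bi, T_a, T_b, T_a, T_bi, T_a, T_b, T_a, T_bi, T_a, T_b, T_a, T_bi, T_a, T_b, T_a, T_bi, T_a, T_b, T_a, T_bi, T_a, T_b, T_a, T_b, T_a, T_bi, T_a, T_bi, T_a, T_b, T_a, T_b, T_a] M (Nat.sub (T_bi u) (Nat.mod (T_bi u) M)) (Nat.mod (T_bi u) M) u) (Nat.ble (nat_lit 11) j)
noncomputable def dp_bi_3 (j u : ℕ) : Bool :=
  Bool.rec (motive := fun _ => Bool) (lF [T_a, T_b, T_a, T_bi, T_a, T_b, T_a, T_b, T_a, T_bi, T_a, T_bi, T_a, T_b, T_a, T_b, T_a, T_bi, T_a, T_b, T_a, T_bi, T_a, T_b, T_a, T_bi, T_a, T_b, T_a, T_bi, T_a, T_b, T_a, T_bi, T_a, T_b, T_a, T_bi, T_a, T_b, T_a, T_b, T_a, T_bi, T_a, T_bi, T_a, T_b, T_a, T_b, T_a, T_bi, T_a, T_b, T_a, T_bi, T_a, T_b, T_a, T_bi, T_a, T_b, T_a, T_bi, T_a, T_b, T_a] M (Nat.sub (T_bi u) (Nat.mod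 (T_bi u) M)) (Nat.mod (T_bi u) M) u) (dp_bi_2 j u) (Nat.ble (nat_lit 10) j)
noncomputable def dp_bi_4 (j u : ℕ) : Bool :=
  Bool.rec (motive := fun _ => Bool) (dp_bi_1 j u) (dp_bi_3 j u) (Nat.ble (nat_lit 9) j)
noncomputable def dp_bi_5 (j u : ℕ) : Bool :=
  Bool.rec (motive := fun _ => Bool) (dp_bi_0 j u) (dp_bi_4 j u) (Nat.ble (nat_lit 7) j)
noncomputable def dp_bi_6 (j u : ℕ) : Bool :=
  Bool.rec (motive := fun _ => Bool) (lF [T_a, T_b, T_a, T_bi, T_a, T_b, T_a, T_bi, T_a, T_b, T_a, T_bi, T_a, T_b, T_a, T_b, T_a, T_bi, T_a, T_bi, T_a, T_b, T_a, T_b, T_a, T_bi, T_a, T_b, T_a, T_bi, T_a, T_b, T_a, T_bi, T_a, T_b, T_a, T_bi, T_a, T_b, T_a, T_bi, T_a, T_b, T_a, T_bi, T_a, T_b, T_a, T_b, T_a, T_bi, T_a, T_bi, T_a, T_b, T_a, T_b, T_a, T_bi, T_a, T_b, T_a, T_bi, T_a, T_b, T_a] M (Nat.sub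 (T_bi u) (Nat.mod (T_bi u) M)) (Nat.mod (T_bi u) M) u) (lS MG [T_a, T_b, T_a, T_bi, T_a, T_b, T_a, T_bi, T_a, T_b, T_a, T_b, T_a, T_bi, T_a, T_bi, T_a, T_b, T_a, T_b, T_a, T_bi, T_a, T_b, T_a, T_bi, T_a, T_b, T_a, T_bi, T_a, T_b, T_a, T_bi, T_a, T_b, T_a, T_bi, T_a, T_b, T_a, T_bi, T_a, T_b, T_a, T_b, T_a, T_bi, T_a, T_bi, T_a, T_b, T_a, T_b, T_a, T_bi, T_a, T_b, T_a, T_bi, T_a, T_b, T_a, T_bi, T_a, T_b, T_a] M (Nat.sub (T_bi u) (Nat.mod (T_bi u) M)) (nat_lit 40) (Nat.mod (T_bi u) M) u) (Nat.ble (nat_lit 14) j)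
noncomputable def dp_bi_7 (j u : ℕ) : Bool :=
  Bool.rec (motive := fun _ => Bool) (lF [T_a, T_b, T_a, T_bi, T_a, T_b, T_a, T_bi, T_a, T_b, T_a, T_bi, T_a, T_b, T_a, T_bi, T_a, T_b, T_a, T_b, T_a, T_bi, T_a, T_bi, T_a, T_b, T_a, T_b, T_a, T_bi, T_a, T_b, T_a, T_bi, T_a, T_b, T_a, T_bi, T_a, T_b, T_a, T_bi, T_a, T_b, T_a, T_bi, T_a, T_b, T_a, T_bi, T_a, T_b, T_a, T_b, T_a, T_bi, T_a, T_bi, T_a, T_b, T_a, T_b, T_a, T_bi, T_a, T_b, T_a] M (Nat.sub (T_bi u) (Nat.mod (T_bi u) M)) (Nat.mod (T_bi u) M) u) (dp_bi_6 j u) (Nat.ble (nat_lit 13) j)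
noncomputable def dp_bi_8 (j u : ℕ) : Bool :=
  Bool.rec (motive := fun _ => Bool) (lS MG [T_a, T_b, T_a, T_bi, T_a, T_b, T_a, T_bi, T_a, T_b, T_a, T_bi, T_a, T_b, T_a, T_b, T_a, T_bi, T_a, T_bi, T_a, T_b, T_a, T_b, T_a, T_bi, T_a, T_b, T_a, T_bi, T_a, T_b, T_a, T_bi, T_a, T_b, T_a, T_bi, T_a, T_b, T_a, T_bi, T_a, T_b, T_a, T_bi, T_a, T_b, T_a, T_b, T_a, T_bi, T_a, T_bi, T_a, T_b, T_a, T_b, T_a, T_bi, T_a, T_b, T_a, T_bi, T_a, T_b, T_a] M (Nat.sub (T_bi u) (Nat.mod (T_bi u) M)) (nat_lit 40) (Nat.mod (T_bi u) M) u) (lS MG [T_a, T_b, T_a, T_bi, T_a, T_b, T_a, T_bi, T_a, T_bi, T_a, T_b, T_a, T_b, T_a, T_bi, T_a, T_bi, T_a, T_b, T_a, T_bi, T_a, T_b, T_a, T_bi, T_a, T_b, T_a, T_bi, T_a, T_b, T_a, T_bi, T_a, T_b, T_a, T_bi, T_a, T_b, T_a, T_bi, T_a, T_bi, T_a, T_b, T_a, T_b, T_a, T_bi,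 T_a, T_bi, T_a, T_b, T_a, T_bi, T_a, T_b, T_a, T_bi, T_a, T_b, T_a, T_bi, T_a, T_b, T_a] M (Nat.sub (T_bi u) (Nat.mod (T_bi u) M)) (nat_lit 40) (Nat.mod (T_bi u) M) u) (Nat.ble (nat_lit 17) j)
noncomputable def dp_bi_9 (j u : ℕ) : Bool :=
  Bool.rec (motive := fun _ => Bool) (lF [T_a, T_b, T_a, T_bi, T_a, T_bi, T_a, T_b, T_a, T_b, T_a, T_bi, T_a, T_bi, T_a, T_b, T_a, T_bi, T_a, T_b, T_a, T_bi, T_a, T_b, T_a, T_bi, T_a, T_b, T_a, T_bi, T_a, T_b, T_a, T_bi, T_a, T_b, T_a, T_bi, T_a, T_bi, T_a, T_b, T_a, T_b, T_a, T_bi, T_a, T_bi, T_a, T_b, T_a, T_bi, T_a, T_b, T_a, T_bi, T_a, T_b, T_a, T_bi, T_a, T_b, T_a, T_bi, T_a, T_b, T_a] M (Nat.sub (T_bi u) (Nat.mod (T_bi u) M)) (Nat.mod (T_bi u) M) u) (dp_bi_8 j u) (Nat.ble (nat_lit 16) j)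
noncomputable def dp_bi_10 (j u : ℕ) : Bool :=
  Bool.rec (motive := fun _ => Bool) (lF [T_a, T_b, T_a, T_b, T_a, T_bi, T_a, T_bi, T_a, T_b, T_a, T_b, T_a, T_bi, T_a, T_b, T_a, T_bi, T_a, T_b, T_a, T_bi, T_a, T_b, T_a, T_bi, T_a, T_b, T_a, T_bi, T_a, T_b, T_a, T_bi, T_a, T_b, T_a, T_b, T_a, T_bi, T_a, T_bi, T_a, T_b, T_a, T_b, T_a, T_bi, T_a, T_b, T_a, T_bi, T_a, T_b, T_a, T_bi, T_a, T_b, T_a, T_bi, T_a, T_b, T_a, T_bi, T_a, T_b, T_a] M (Nat.sub (T_bi u) (Nat.mod (T_bi u) M)) (Nat.mod (T_bi u) M) u) (lF [T_a, T_b, T_a, T_bi, T_a, T_b, T_a, T_bi, T_a, T_b, T_a, T_b, T_a, T_bi, T_a, T_bi, T_a, T_b, T_a, T_b, T_a, T_bi, T_a, T_b, T_a, T_bi, T_a, T_b, T_a, T_bi, T_a, T_b, T_a, T_bi, T_a, T_b, T_a, T_bi, T_a, T_b, T_a, T_bi, T_a, T_b, T_a, T_b, T_a, T_bi, T_a, T_bi, T_a, T_b, T_a, T_b,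 T_a, T_bi, T_a, T_b, T_a, T_bi, T_a, T_b, T_a, T_bi, T_a, T_b, T_a] M (Nat.sub (T_bi u) (Nat.mod (T_bi u) M)) (Nat.mod (T_bi u) M) u) (Nat.ble (nat_lit 20) j)
noncomputable def dp_bi_11 (j u : ℕ) : Bool :=
  Bool.rec (motive := fun _ => Bool) (lF [T_a, T_b, T_a, T_bi, T_a, T_b, T_a, T_bi, T_a, T_b, T_a, T_bi, T_a, T_b, T_a, T_bi, T_a, T_b, T_a, T_bi, T_a, T_bi, T_a, T_b, T_a, T_b, T_a, T_bi, T_a, T_bi, T_a, T_b, T_a, T_bi, T_a, T_b, T_a, T_bi, T_a, T_b, T_a, T_bi, T_a, T_b, T_a, T_bi, T_a, T_b, T_a, T_bi, T_a, T_b, T_a, T_bi, T_a, T_bi, T_a, T_b, T_a, T_b, T_a, T_bi, T_a, T_bi, T_a, T_b, T_a] M (Nat.sub (T_bi u) (Nat.mod (T_bi u) M)) (Nat.mod (T_bi u) M) u) (dp_bi_10 j u) (Nat.ble (nat_lit 19) j)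
noncomputable def dp_bi_12 (j u : ℕ) : Bool :=
  Bool.rec (motive := fun _ => Bool) (dp_bi_9 j u) (dp_bi_11 j u) (Nat.ble (nat_lit 18) j)
noncomputable def dp_bi_13 (j u : ℕ) : Bool :=
  Bool.rec (motive := fun _ => Bool) (dp_bi_7 j u) (dp_bi_12 j u) (Nat.ble (nat_lit 15) j)
noncomputable def dp_bi_14 (j u : ℕ) : Bool :=
  Bool.rec (motive := fun _ => Bool) (lF [T_a, T_b, T_a, T_b, T_a, T_bi, T_a, T_bi, T_a, T_b, T_a, T_bi, T_a, T_b, T_a, T_bi, T_a, T_b, T_a, T_bi, T_a, T_b, T_a, T_bi, T_a, T_b, T_a, T_bi, T_a, T_b, T_a, T_bi, T_a, T_bi, T_a, T_b, T_a, T_b, T_a, T_bi, T_a, T_bi, T_a, T_b, T_a, T_bi, T_a, T_b, T_a, T_bi, T_a, T_b, T_a, T_bi, T_a, T_b, T_a, T_bi, T_a, T_b, T_a, T_bi, T_a, T_b, T_a, T_bi, T_a] M (Nat.sub (T_bi u) (Nat.mod (T_bi u) M)) (Nat.mod (T_bi u) M) u) (lS MG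 [T_a, T_b, T_a, T_b, T_a, T_bi, T_a, T_bi, T_a, T_b, T_a, T_bi, T_a, T_b, T_a, T_bi, T_a, T_b, T_a, T_bi, T_a, T_b, T_a, T_bi, T_a, T_b, T_a, T_bi, T_a, T_b, T_a, T_bi, T_a, T_bi, T_a, T_b, T_a, T_b, T_a, T_bi, T_a, T_bi, T_a, T_b, T_a, T_bi, T_a, T_b, T_a, T_bi, T_a, T_b, T_a, T_bi, T_a, T_b, T_a, T_bi, T_a, T_b, T_a, T_bi, T_a, T_b, T_a, T_bi, T_a] M (Nat.sub (T_bi u) (Nat.mod (T_bi u) M)) (nat_lit 40) (Nat.mod (T_bi u) M) u) (Nat.ble (nat_lit 23) j)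
noncomputable def dp_bi_15 (j u : ℕ) : Bool :=
  Bool.rec (motive := fun _ => Bool) (lS MG [T_a, T_bi, T_a, T_b, T_a, T_b, T_a, T_bi, T_a, T_bi, T_a, T_b, T_a, T_bi, T_a, T_b, T_a, T_bi, T_a, T_b, T_a, T_bi, T_a, T_b, T_a, T_bi, T_a, T_b, T_a, T_bi, T_a, T_b, T_a, T_bi, T_a, T_bi, T_a, T_b, T_a, T_b, T_a, T_bi, T_a, T_bi, T_a, T_b, T_a, T_bi, T_a, T_b, T_a, T_bi, T_a, T_b, T_a, T_bi, T_a, T_b, T_a, T_bi, T_a, T_b, T_a, T_bi, T_a, T_b, T_a] M (Nat.sub (T_bi u) (Nat.mod (T_bi u) M)) (nat_lit 40) (Nat.mod (T_bi u) M) u) (dp_bi_14 j u) (Nat.ble (nat_lit 22) j)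
noncomputable def dp_bi_16 (j u : ℕ) : Bool :=
  Bool.rec (motive := fun _ => Bool) (lS MG [T_a, T_bi, T_a, T_b, T_a, T_bi, T_a, T_b, T_a, T_bi, T_a, T_b, T_a, T_bi, T_a, T_b, T_a, T_bi, T_a, T_b, T_a, T_bi, T_a, T_b, T_a, T_bi, T_a, T_bi, T_a, T_b, T_a, T_b, T_a, T_bi, T_a, T_bi, T_a, T_b, T_a, T_bi, T_a, T_b, T_a, T_bi, T_a, T_b, T_a, T_bi, T_a, T_b, T_a, T_bi, T_a, T_b, T_a, T_bi, T_a, T_b, T_a, T_bi, T_a, T_bi, T_a, T_b, T_a, T_b, T_a] M (Nat.sub (T_bi u) (Nat.mod (T_bi u) M)) (nat_lit 40) (Nat.mod (T_bi u) M) u) (lF [T_a, T_bi, T_a, T_b, T_a, T_b, T_a, T_bi, T_a, T_bi, T_a, T_b, T_a, T_bi, T_a, T_b, T_a, T_bi, T_a, T_b, T_a, T_bi, T_a, T_b, T_a, T_bi, T_a, T_b, T_a, T_bi, T_a, T_b, T_a, T_bi, T_a, T_bi, T_a, T_b, T_a, T_b, T_a, T_bi, T_a, T_bi, T_a, T_b, T_a, T_bi, T_a, T_b,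 T_a, T_bi, T_a, T_b, T_a, T_bi, T_a, T_b, T_a, T_bi, T_a, T_b, T_a, T_bi, T_a, T_b, T_a] M (Nat.sub (T_bi u) (Nat.mod (T_bi u) M)) (Nat.mod (T_bi u) M) u) (Nat.ble (nat_lit 25) j)
noncomputable def dp_bi_17 (j u : ℕ) : Bool :=
  Bool.rec (motive := fun _ => Bool) (lF [T_a, T_b, T_a, T_b, T_a, T_bi, T_a, T_b, T_a, T_bi, T_a, T_b, T_a, T_bi, T_a, T_b, T_a, T_bi, T_a, T_b, T_a, T_bi, T_a, T_b, T_a, T_bi, T_a, T_b, T_a, T_b, T_a, T_bi, T_a, T_bi, T_a, T_b, T_a, T_b, T_a, T_bi, T_a, T_b, T_a, T_bi, T_a, T_b, T_a, T_bi, T_a, T_b, T_a, T_bi, T_a, T_b, T_a, T_bi, T_a, T_b, T_a, T_bi, T_a, T_b, T_a, T_b, T_a, T_bi, T_a] M (Nat.sub (T_bi u) (Nat.mod (T_bi u) M)) (Nat.mod (T_bi u) M) u) (lF [T_a, T_b, T_a, T_bi, T_a, T_b, T_a, T_bi, T_a, T_b, T_a, T_bi, T_a, T_b, T_a, T_bi, T_a, T_b, T_a,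 T_bi, T_a, T_b, T_a, T_bi, T_a, T_bi, T_a, T_b, T_a, T_b, T_a, T_bi, T_a, T_bi, T_a, T_b, T_a, T_bi, T_a, T_b, T_a, T_bi, T_a, T_b, T_a, T_bi, T_a, T_b, T_a, T_bi, T_a, T_b, T_a, T_bi, T_a, T_b, T_a, T_bi, T_a, T_bi, T_a, T_b, T_a, T_b, T_a, T_bi, T_a] M (Nat.sub (T_bi u) (Nat.mod (T_bi u) M)) (Nat.mod (T_bi u) M) u) (Nat.ble (nat_lit 27) j)
noncomputable def dp_bi_18 (j u : ℕ) : Bool :=
  Bool.rec (motive := fun _ => Bool) (dp_bi_16 j u) (dp_bi_17 j u) (Nat.ble (nat_lit 26) j)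
noncomputable def dp_bi_19 (j u : ℕ) : Bool :=
  Bool.rec (motive := fun _ => Bool) (dp_bi_15 j u) (dp_bi_18 j u) (Nat.ble (nat_lit 24) j)
noncomputable def dp_bi_20 (j u : ℕ) : Bool :=
  Bool.rec (motive := fun _ => Bool) (lF [T_a, T_bi, T_a, T_b, T_a, T_b, T_a, T_bi, T_a, T_b, T_a, T_bi, T_a, T_b, T_a, T_bi, T_a, T_b, T_a, T_bi, T_a, T_b, T_a, T_bi, T_a, T_b, T_a, T_bi, T_a, T_b, T_a, T_b, T_a, T_bi, T_a, T_bi, T_a, T_b, T_a, T_b, T_a, T_bi, T_a, T_b, T_a, T_bi, T_a, T_b, T_a, T_bi, T_a, T_b, T_a, T_bi, T_a, T_b, T_a, T_bi, T_a, T_b, T_a, T_bi, T_a, T_b, T_a, T_b, T_a] M (Nat.sub (T_bi u) (Nat.mod (T_bi u) M)) (Nat.mod (T_bi u) M) u) (lS MG [T_a, T_bi, T_a, T_b, T_a, T_b, T_a, T_bi, T_a, T_b, T_a, T_bi, T_a, T_b, T_a, T_bi, T_a, T_b, T_a, T_bi, T_a, T_b, T_a, T_bi, T_a, T_b, T_a,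 T_bi, T_a, T_b, T_a, T_b, T_a, T_bi, T_a, T_bi, T_a, T_b, T_a, T_b, T_a, T_bi, T_a, T_b, T_a, T_bi, T_a, T_b, T_a, T_bi, T_a, T_b, T_a, T_bi, T_a, T_b, T_a, T_bi, T_a, T_b, T_a, T_bi, T_a, T_b, T_a, T_b, T_a] M (Nat.sub (T_bi u) (Nat.mod (T_bi u) M)) (nat_lit 40) (Nat.mod (T_bi u) M) u) (Nat.ble (nat_lit 29) j)
noncomputable def dp_bi_21 (j u : ℕ) : Bool :=
  Bool.rec (motive := fun _ => Bool) (lS MG [T_a, T_b, T_a, T_b, T_a, T_bi, T_a, T_b, T_a, T_bi, T_a, T_b, T_a, T_bi, T_a, T_b, T_a, T_bi, T_a, T_b, T_a, T_bi, T_a, T_b, T_a, T_bi, T_a, T_b, T_a, T_b, T_a, T_bi, T_a, T_bi, T_a, T_b, T_a, T_b, T_a, T_bi, T_a, T_b, T_a, T_bi, T_a, T_b, T_a, T_bi, T_a, T_b, T_a, T_bi, T_a, T_b, T_a, T_bi, T_a, T_b, T_a, T_bi, T_a, T_b, T_a, T_b, T_a, T_bi, T_a] M (Nat.sub (T_bi u) (Nat.mod (T_bi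 u) M)) (nat_lit 40) (Nat.mod (T_bi u) M) u) (lS MG [T_a, T_b, T_a, T_bi, T_a, T_b, T_a, T_bi, T_a, T_b, T_a, T_bi, T_a, T_b, T_a, T_bi, T_a, T_b, T_a, T_bi, T_a, T_b, T_a, T_b, T_a, T_bi, T_a, T_bi, T_a, T_b, T_a, T_b, T_a, T_bi, T_a, T_b, T_a, T_bi, T_a, T_b, T_a, T_bi, T_a, T_b, T_a, T_bi, T_a, T_b, T_a, T_bi, T_a, T_b, T_a, T_bi, T_a, T_b, T_a, T_b, T_a, T_bi, T_a, T_bi, T_a, T_b, T_a, T_b, T_a] M (Nat.sub (T_bi u) (Nat.mod (T_bi u) M)) (nat_lit 40) (Nat.mod (T_bi u) M) u) (Nat.ble (nat_lit 31) j)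
noncomputable def dp_bi_22 (j u : ℕ) : Bool :=
  Bool.rec (motive := fun _ => Bool) (dp_bi_20 j u) (dp_bi_21 j u) (Nat.ble (nat_lit 30) j)
noncomputable def dp_bi_23 (j u : ℕ) : Bool :=
  Bool.rec (motive := fun _ => Bool) (lS MG [T_a, T_b, T_a, T_bi, T_a, T_b, T_a, T_bi, T_a, T_b, T_a, T_bi, T_a, T_b, T_a, T_bi, T_a, T_b, T_a, T_b, T_a, T_bi, T_a, T_bi, T_a, T_b, T_a, T_b, T_a, T_bi, T_a, T_b, T_a, T_bi, T_a, T_b, T_a, T_bi, T_a, T_b, T_a, T_bi, T_a, T_b, T_a, T_bi, T_a, T_b, T_a, T_bi, T_a, T_b, T_a, T_b, T_a, T_bi, T_a, T_bi, T_a, T_b, T_a, T_b, T_a, T_bi, T_a, T_b, T_a] M (Nat.sub (T_bi u) (Nat.mod (T_bi u) M)) (nat_lit 40) (Nat.mod (T_bi u) M) u) (lF [T_a, T_bi, T_a, T_b, T_a, T_bi, T_a, T_b, T_a, T_bi, T_a, T_b, T_a, T_bi, T_a, T_b, T_a, T_bi, T_a, T_b, T_a, T_bi, T_a, T_b,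 T_a, T_bi, T_a, T_bi, T_a, T_b, T_a, T_b, T_a, T_bi, T_a, T_bi, T_a, T_b, T_a, T_bi, T_a, T_b, T_a, T_bi, T_a, T_b, T_a, T_bi, T_a, T_b, T_a, T_bi, T_a, T_b, T_a, T_bi, T_a, T_b, T_a, T_bi, T_a, T_bi, T_a, T_b, T_a, T_b, T_a] M (Nat.sub (T_bi u) (Nat.mod (T_bi u) M)) (Nat.mod (T_bi u) M) u) (Nat.ble (nat_lit 33) j)
noncomputable def dp_bi_24 (j u : ℕ) : Bool :=
  Bool.rec (motive := fun _ => Bool) (lS MG [T_a, T_b, T_a, T_bi, T_a, T_b, T_a, T_bi, T_a, T_b, T_a, T_bi, T_a, T_b, T_a, T_bi, T_a, T_b, T_a, T_bi, T_a, T_bi, T_a, T_b, T_a, T_b, T_a, T_bi, T_a, T_bi, T_a, T_b, T_a, T_bi, T_a, T_b, T_a, T_bi, T_a, T_b, T_a, T_bi, T_a, T_b, T_a, T_bi, T_a, T_b, T_a, T_bi, T_a, T_b, T_a, T_bi, T_a, T_bi, T_a, T_b, T_a, T_b, T_a, T_bi, T_a, T_bi, T_a, T_b, T_a] M (Nat.sub (T_bi u) (Nat.mod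 (T_bi u) M)) (nat_lit 40) (Nat.mod (T_bi u) M) u) (lF [T_a, T_b, T_a, T_bi, T_a, T_b, T_a, T_b, T_a, T_bi, T_a, T_b, T_a, T_bi, T_a, T_b, T_a, T_bi, T_a, T_b, T_a, T_b, T_a, T_bi, T_a, T_b, T_a, T_bi, T_a, T_b, T_a, T_bi, T_a, T_b, T_a, T_b, T_a, T_bi, T_a, T_b, T_a, T_bi, T_a, T_b, T_a, T_bi, T_a, T_b, T_a, T_b, T_a, T_bi, T_a, T_b, T_a, T_bi, T_a, T_b, T_a, T_bi, T_a, T_b, T_a, T_b, T_a, T_bi, T_a, T_b, T_a] M (Nat.sub (T_bi u) (Nat.mod (T_bi u) M)) (Nat.mod (T_bi u) M) u) (Nat.ble (nat_lit 35) j)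
noncomputable def dp_bi_25 (j u : ℕ) : Bool :=
  Bool.rec (motive := fun _ => Bool) (dp_bi_23 j u) (dp_bi_24 j u) (Nat.ble (nat_lit 34) j)
noncomputable def dp_bi_26 (j u : ℕ) : Bool :=
  Bool.rec (motive := fun _ => Bool) (lF [T_a, T_b, T_a, T_b, T_a, T_bi, T_a, T_b, T_a, T_bi, T_a, T_b, T_a, T_bi, T_a, T_b, T_a, T_b, T_a, T_bi, T_a, T_b, T_a, T_bi, T_a, T_b, T_a, T_bi, T_a, T_b, T_a, T_b, T_a, T_bi, T_a, T_b, T_a, T_bi, T_a, T_b, T_a, T_bi, T_a, T_b, T_a, T_b, T_a, T_bi, T_a, T_b, T_a, T_bi, T_a, T_b, T_a, T_bi, T_a, T_b, T_a, T_b, T_a, T_bi, T_a, T_b, T_a, T_bi, T_a, T_b, T_a] M (Nat.sub (T_bi u) (Nat.mod (T_bi u) M)) (Nat.mod (T_bi u) M) u) (lS MG [T_a, T_b, T_a, T_bi, T_a, T_b, T_a, T_b, T_a, T_bi, T_a, T_bi, T_a, T_b, T_a, T_b, T_a, T_bi, T_a, T_b, T_a, T_bi, T_a, T_b, T_a,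 T_bi, T_a, T_b, T_a, T_bi, T_a, T_b, T_a, T_bi, T_a, T_b, T_a, T_bi, T_a, T_b, T_a, T_b, T_a, T_bi, T_a, T_bi, T_a, T_b, T_a, T_b, T_a, T_bi, T_a, T_b, T_a, T_bi, T_a, T_b, T_a, T_bi, T_a, T_b, T_a, T_bi, T_a, T_b, T_a] M (Nat.sub (T_bi u) (Nat.mod (T_bi u) M)) (nat_lit 40) (Nat.mod (T_bi u) M) u) (Nat.ble (nat_lit 38) j)
noncomputable def dp_bi_27 (j u : ℕ) : Bool :=
  Bool.rec (motive := fun _ => Bool) (lF [T_a, T_b, T_a, T_bi, T_a, T_b, T_a, T_bi, T_a, T_b, T_a, T_b, T_a, T_bi, T_a, T_b, T_a, T_bi, T_a, T_b, T_a, T_bi, T_a, T_b, T_a, T_b, T_a, T_bi, T_a, T_b, T_a, T_bi, T_a, T_b, T_a, T_bi, T_a, T_b, T_a, T_b, T_a, T_bi, T_a, T_b, T_a, T_bi, T_a, T_b, T_a, T_bi, T_a, T_b, T_a, T_b, T_a, T_bi, T_a, T_b, T_a, T_bi, T_a, T_b, T_a, T_bi, T_a, T_b, T_a, T_b, T_a] M (Nat.sub (T_bi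 u) (Nat.mod (T_bi u) M)) (Nat.mod (T_bi u) M) u) (dp_bi_26 j u) (Nat.ble (nat_lit 37) j)
noncomputable def dp_bi_28 (j u : ℕ) : Bool :=
  Bool.rec (motive := fun _ => Bool) (lS MG [T_a, T_b, T_a, T_bi, T_a, T_b, T_a, T_bi, T_a, T_b, T_a, T_bi, T_a, T_b, T_a, T_bi, T_a, T_bi, T_a, T_b, T_a, T_b, T_a, T_bi, T_a, T_bi, T_a, T_b, T_a, T_bi, T_a, T_b, T_a, T_bi, T_a, T_b, T_a, T_bi, T_a, T_b, T_a, T_bi, T_a, T_b, T_a, T_bi, T_a, T_b, T_a, T_bi, T_a, T_bi, T_a, T_b, T_a, T_b, T_a, T_bi, T_a, T_bi, T_a, T_b, T_a, T_bi, T_a, T_b, T_a] M (Nat.sub (T_bi u) (Nat.mod (T_bi u) M)) (nat_lit 40) (Nat.mod (T_bi u) M) u) (lS MG [T_a, T_b, T_a, T_b, T_a, T_bi, T_a, T_bi, T_a, T_b, T_a, T_b, T_a, T_bi, T_a, T_b, T_a, T_bi, T_a, T_b, T_a, T_bi, T_a, T_b, T_a, T_bi, T_a, T_b, T_a, T_bi, T_a, T_b, T_a,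 T_bi, T_a, T_b, T_a, T_b, T_a, T_bi, T_a, T_bi, T_a, T_b, T_a, T_b, T_a, T_bi, T_a, T_b, T_a, T_bi, T_a, T_b, T_a, T_bi, T_a, T_b, T_a, T_bi, T_a, T_b, T_a, T_bi, T_a, T_b, T_a] M (Nat.sub (T_bi u) (Nat.mod (T_bi u) M)) (nat_lit 40) (Nat.mod (T_bi u) M) u) (Nat.ble (nat_lit 40) j)
noncomputable def dp_bi_29 (j u : ℕ) : Bool :=
  Bool.rec (motive := fun _ => Bool) (lS MG [T_a, T_b, T_a, T_bi, T_a, T_b, T_a, T_bi, T_a, T_b, T_a, T_bi, T_a, T_bi, T_a, T_b, T_a, T_b, T_a, T_bi, T_a, T_bi, T_a, T_b, T_a, T_bi, T_a, T_b, T_a, T_bi, T_a, T_b, T_a, T_bi, T_a, T_b, T_a, T_bi, T_a, T_b, T_a, T_bi, T_a, T_b, T_a, T_bi, T_a, T_bi, T_a, T_b, T_a, T_b, T_a, T_bi, T_a, T_bi, T_a, T_b, T_a, T_bi, T_a, T_b, T_a, T_bi, T_a, T_b, T_a] M (Nat.sub (T_bi u) (Nat.mod (T_bi u) M)) (nat_lit 40) (Nat.mod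 (T_bi u) M) u) (lS MG [T_a, T_b, T_a, T_bi, T_a, T_b, T_a, T_bi, T_a, T_b, T_a, T_bi, T_a, T_b, T_a, T_bi, T_a, T_b, T_a, T_bi, T_a, T_b, T_a, T_bi, T_a, T_bi, T_a, T_b, T_a, T_b, T_a, T_bi, T_a, T_bi, T_a, T_b, T_a, T_bi, T_a, T_b, T_a, T_bi, T_a, T_b, T_a, T_bi, T_a, T_b, T_a, T_bi, T_a, T_b, T_a, T_bi, T_a, T_b, T_a, T_bi, T_a, T_bi, T_a, T_b, T_a, T_b, T_a, T_bi, T_a] M (Nat.sub (T_bi u) (Nat.mod (T_bi u) M)) (nat_lit 40) (Nat.mod (T_bi u) M) u) (Nat.ble (nat_lit 42) j)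
noncomputable def dp_bi_30 (j u : ℕ) : Bool :=
  Bool.rec (motive := fun _ => Bool) (dp_bi_28 j u) (dp_bi_29 j u) (Nat.ble (nat_lit 41) j)
noncomputable def dp_bi_31 (j u : ℕ) : Bool :=
  Bool.rec (motive := fun _ => Bool) (dp_bi_27 j u) (dp_bi_30 j u) (Nat.ble (nat_lit 39) j)
noncomputable def dp_bi_32 (j u : ℕ) : Bool :=
  Bool.rec (motive := fun _ => Bool) (dp_bi_25 j u) (dp_bi_31 j u) (Nat.ble (nat_lit 36) j)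
noncomputable def dp_bi_33 (j u : ℕ) : Bool :=
  Bool.rec (motive := fun _ => Bool) (dp_bi_22 j u) (dp_bi_32 j u) (Nat.ble (nat_lit 32) j)
noncomputable def dp_bi_34 (j u : ℕ) : Bool :=
  Bool.rec (motive := fun _ => Bool) (dp_bi_19 j u) (dp_bi_33 j u) (Nat.ble (nat_lit 28) j)
noncomputable def dp_bi_35 (j u : ℕ) : Bool :=
  Bool.rec (motive := fun _ => Bool) (dp_bi_13 j u) (dp_bi_34 j u) (Nat.ble (nat_lit 21) j)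
noncomputable def dp_bi_36 (j u : ℕ) : Bool :=
  Bool.rec (motive := fun _ => Bool) (dp_bi_5 j u) (dp_bi_35 j u) (Nat.ble (nat_lit 12) j)
noncomputable def dp_bi_37 (j u : ℕ) : Bool :=
  Bool.rec (motive := fun _ => Bool) (lF [T_a, T_bi, T_a, T_bi, T_a, T_bi, T_a, T_bi, T_a, T_bi, T_a, T_bi, T_a] M (Nat.sub (T_bi u) (Nat.mod (T_bi u) M)) (Nat.mod (T_bi u) M) u) (dp_bi_36 j u) (Nat.ble (nat_lit 5) j)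
noncomputable def dp_bi_38 (j u : ℕ) : Bool :=
  Bool.rec (motive := fun _ => Bool) (lF [T_bi, T_bi] M (Nat.sub (T_bi u) (Nat.mod (T_bi u) M)) (Nat.mod (T_bi u) M) u) (dp_bi_37 j u) (Nat.ble (nat_lit 4) j)
noncomputable def dp_bi_39 (j u : ℕ) : Bool :=
  Bool.rec (motive := fun _ => Bool) (lDef P (nat_lit 2) (Nat.mod (T_bi u) M) u) (dp_bi_38 j u) (Nat.ble (nat_lit 3) j)
noncomputable def disp_bi (j u : ℕ) : Bool :=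
  Bool.rec (motive := fun _ => Bool) (Bool.rec (motive := fun _ => Bool) (lF1 T_b M (Nat.sub (T_bi u) (Nat.mod (T_bi u) M)) (Nat.mod (T_bi u) M) u) (lDef P (nat_lit 1) u (Nat.mod (T_bi u) M)) (Nat.ble (nat_lit 1) j)) (dp_bi_39 j u) (Nat.ble (nat_lit 2) j)
noncomputable def chk_bi (j u : ℕ) : Bool :=
  Bool.rec (motive := fun _ => Bool) (disp_bi j u) (Nat.ble (Nat.succ (MG u)) A) (Nat.ble A (T_bi u))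
noncomputable def dM_0 (j z1 z2 u : ℕ) : Bool :=
  Bool.rec (motive := fun _ => Bool) (mCo MG T_a M (Nat.sub (MG u) (Nat.mod (MG u) M)) (nat_lit 40) z1 z2 u (Nat.mod (MG u) M)) (mCo MG T_b M (Nat.sub (MG u) (Nat.mod (MG u) M)) (nat_lit 40) z1 z2 u (Nat.mod (MG u) M)) (Nat.ble (nat_lit 1) j)
noncomputable def dM_1 (j z1 z2 u : ℕ) : Bool :=
  Bool.rec (motive := fun _ => Bool) (mCo MG T_bi M (Nat.sub (MG u) (Nat.mod (MG u) M)) (nat_lit 40) z1 z2 u (Nat.mod (MG u) M)) (Bool.rec (motive := fun _ => Bool) (Bool.rec (motive := fun _ => Bool) (mRel MG [T_a, T_b, T_a, T_b, T_a, T_b, T_a] [T_bi, T_a, T_bi, T_a, T_bi, T_a, T_bi] M (Nat.sub (MG u) (Nat.mod (MG u) M)) (nat_lit 40) z1 u (Nat.mod (MG u) M)) (mRel MG [T_b, T_a, T_b, T_a, T_b, T_a, T_b, T_a] [T_a, T_bi, T_a, T_bi, T_a, T_bi] M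 (Nat.sub (MG u) (Nat.mod (MG u) M)) (nat_lit 40) z1 u (Nat.mod (MG u) M)) (Nat.ble (nat_lit 4) j)) (Bool.rec (motive := fun _ => Bool) (Bool.rec (motive := fun _ => Bool) (mRel MG [T_a, T_bi, T_a, T_bi, T_a, T_bi, T_a] [T_b, T_a, T_b, T_a, T_b, T_a, T_b] M (Nat.sub (MG u) (Nat.mod (MG u) M)) (nat_lit 40) z1 u (Nat.mod (MG u) M)) (mRel MG [T_a, T_bi, T_a, T_bi, T_a, T_bi, T_a, T_bi, T_a] [T_b, T_a, T_b, T_a, T_b] M (Nat.sub (MG u) (Nat.mod (MG u) M)) (nat_lit 40) z1 u (Nat.mod (MG u) M)) (Nat.ble (nat_lit 6) j)) (Bool.rec (motive := fun _ => Bool) (mRel MG [T_b, T_a, T_b, T_a, T_b, T_a, T_b, T_a, T_b, T_a] [T_a, T_bi, T_a, T_bi] M (Nat.sub (MG u) (Nat.mod (MG u) M)) (nat_lit 40) z1 u (Nat.mod (MG u) M)) (mRel MG [T_a, T_b, T_a, T_b, T_a, T_b, T_a, T_b, T_a] [T_bi, T_a, T_bi, T_a,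 T_bi] M (Nat.sub (MG u) (Nat.mod (MG u) M)) (nat_lit 40) z1 u (Nat.mod (MG u) M)) (Nat.ble (nat_lit 8) j)) (Nat.ble (nat_lit 7) j)) (Nat.ble (nat_lit 5) j)) (Nat.ble (nat_lit 3) j)
noncomputable def dM_2 (j z1 z2 u : ℕ) : Bool :=
  Bool.rec (motive := fun _ => Bool) (Bool.rec (motive := fun _ => Bool) (mRel MG [T_bi, T_a, T_bi, T_a, T_bi, T_a, T_bi, T_a] [T_a, T_b, T_a, T_b, T_a, T_b] M (Nat.sub (MG u) (Nat.mod (MG u) M)) (nat_lit 40) z1 u (Nat.mod (MG u) M)) (Bool.rec (motive := fun _ => Bool) (mRel MG [T_a, T_bi, T_a, T_bi, T_a, T_bi, T_a, T_bi, T_a, T_bi, T_a] [T_b, T_a, T_b] M (Nat.sub (MG u) (Nat.mod (MG u) M)) (nat_lit 40) z1 u (Nat.mod (MG u) M)) (mRel MG [T_b, T_a, T_b, T_a, T_b, T_a] [T_a, T_bi, T_a, T_bi, T_a, T_bi, T_a, T_bi] M (Nat.sub (MG u) (Nat.mod (MG u) M)) (nat_lit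 40) z1 u (Nat.mod (MG u) M)) (Nat.ble (nat_lit 11) j)) (Nat.ble (nat_lit 10) j)) (Bool.rec (motive := fun _ => Bool) (Bool.rec (motive := fun _ => Bool) (mRel MG [T_bi, T_a, T_bi, T_a, T_bi] [T_a, T_b, T_a, T_b, T_a, T_b, T_a, T_b, T_a] M (Nat.sub (MG u) (Nat.mod (MG u) M)) (nat_lit 40) z1 u (Nat.mod (MG u) M)) (mRel MG [T_bi, T_a, T_bi, T_a] [T_a, T_b, T_a, T_b, T_a, T_b, T_a, T_b, T_a, T_b] M (Nat.sub (MG u) (Nat.mod (MG u) M)) (nat_lit 40) z1 u (Nat.mod (MG u) M)) (Nat.ble (nat_lit 13) j)) (Bool.rec (motive := fun _ => Bool) (mRel MG [T_a, T_b, T_a, T_b, T_a, T_b, T_a, T_b, T_a, T_b, T_a] [T_bi, T_a, T_bi] M (Nat.sub (MG u) (Nat.mod (MG u) M)) (nat_lit 40) z1 u (Nat.mod (MG u) M)) (mRel MG [T_b, T_a, T_b, T_a, T_b, T_a, T_b, T_a, T_b, T_a, T_b, T_a] [T_a, T_bi] M (Nat.sub (MG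 u) (Nat.mod (MG u) M)) (nat_lit 40) z1 u (Nat.mod (MG u) M)) (Nat.ble (nat_lit 15) j)) (Nat.ble (nat_lit 14) j)) (Nat.ble (nat_lit 12) j)
noncomputable def dM_3 (j z1 z2 u : ℕ) : Bool :=
  Bool.rec (motive := fun _ => Bool) (Bool.rec (motive := fun _ => Bool) (mRel MG [T_b, T_a, T_b, T_a] [T_a, T_bi, T_a, T_bi, T_a, T_bi, T_a, T_bi, T_a, T_bi] M (Nat.sub (MG u) (Nat.mod (MG u) M)) (nat_lit 40) z1 u (Nat.mod (MG u) M)) (Bool.rec (motive := fun _ => Bool) (mRel MG [T_a, T_bi, T_a, T_bi, T_a] [T_b, T_a, T_b, T_a, T_b, T_a, T_b, T_a, T_b] M (Nat.sub (MG u) (Nat.mod (MG u) M)) (nat_lit 40) z1 u (Nat.mod (MG u) M)) (mRel MG [T_bi, T_a, T_bi, T_a, T_bi, T_a, T_bi, T_a, T_bi, T_a] [T_a, T_b, T_a, T_b] M (Nat.sub (MG u) (Nat.mod (MG u) M)) (nat_lit 40) z1 u (Nat.mod (MG u) M)) (Nat.ble (nat_lit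 18) j)) (Nat.ble (nat_lit 17) j)) (Bool.rec (motive := fun _ => Bool) (Bool.rec (motive := fun _ => Bool) (mRel MG [T_bi, T_a, T_bi] [T_a, T_b, T_a, T_b, T_a, T_b, T_a, T_b, T_a, T_b, T_a] M (Nat.sub (MG u) (Nat.mod (MG u) M)) (nat_lit 40) z1 u (Nat.mod (MG u) M)) (mRel MG [T_a, T_b, T_a, T_b, T_a, T_b] [T_bi, T_a, T_bi, T_a, T_bi, T_a, T_bi, T_a] M (Nat.sub (MG u) (Nat.mod (MG u) M)) (nat_lit 40) z1 u (Nat.mod (MG u) M)) (Nat.ble (nat_lit 20) j)) (Bool.rec (motive := fun _ => Bool) (mRel MG [T_a, T_b, T_a, T_b, T_a, T_b, T_a, T_b, T_a, T_b] [T_bi, T_a, T_bi, T_a] M (Nat.sub (MG u) (Nat.mod (MG u) M)) (nat_lit 40) z1 u (Nat.mod (MG u) M)) (mRel MG [T_a, T_b, T_a, T_b, T_a, T_b, T_a, T_b] [T_bi, T_a, T_bi, T_a, T_bi, T_a] M (Nat.sub (MG u) (Nat.mod (MG u) M)) (nat_lit 40) z1 u (Nat.mod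 (MG u) M)) (Nat.ble (nat_lit 22) j)) (Nat.ble (nat_lit 21) j)) (Nat.ble (nat_lit 19) j)
noncomputable def dM_4 (j z1 z2 u : ℕ) : Bool :=
  Bool.rec (motive := fun _ => Bool) (Bool.rec (motive := fun _ => Bool) (mRel MG [T_a, T_bi, T_a, T_bi, T_a, T_bi, T_a, T_bi] [T_b, T_a, T_b, T_a, T_b, T_a] M (Nat.sub (MG u) (Nat.mod (MG u) M)) (nat_lit 40) z1 u (Nat.mod (MG u) M)) (mRel MG [T_b, T_a, T_b, T_a, T_b, T_a, T_b, T_a, T_b] [T_a, T_bi, T_a, T_bi, T_a] M (Nat.sub (MG u) (Nat.mod (MG u) M)) (nat_lit 40) z1 u (Nat.mod (MG u) M)) (Nat.ble (nat_lit 24) j)) (Bool.rec (motive := fun _ => Bool) (mRel MG [T_a, T_b, T_a, T_b, T_a] [T_bi, T_a, T_bi, T_a, T_bi, T_a, T_bi, T_a, T_bi] M (Nat.sub (MG u) (Nat.mod (MG u) M)) (nat_lit 40) z1 u (Nat.mod (MG u) M)) (Bool.rec (motive := fun _ => Bool)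 (mRel MG [T_bi, T_a, T_bi, T_a, T_bi, T_a, T_bi, T_a, T_bi, T_a, T_bi, T_a] [T_a, T_b] M (Nat.sub (MG u) (Nat.mod (MG u) M)) (nat_lit 40) z1 u (Nat.mod (MG u) M)) (mRel MG [T_b, T_a, T_bi, T_a, T_bi, T_a, T_b, T_a, T_bi, T_a, T_b, T_a, T_bi, T_a, T_b, T_a, T_bi, T_a, T_b, T_a, T_bi, T_a, T_b, T_a, T_bi, T_a, T_b, T_a, T_bi, T_a, T_bi, T_a, T_b, T_a, T_b, T_a, T_bi, T_a, T_bi, T_a, T_b, T_a] [T_a, T_bi, T_a, T_b, T_a, T_b, T_a, T_bi, T_a, T_b, T_a, T_bi, T_a, T_b, T_a, T_bi, T_a, T_b, T_a, T_bi, T_a, T_b, T_a, T_bi, T_a, T_b] M (Nat.sub (MG u) (Nat.mod (MG u) M)) (nat_lit 40) z1 u (Nat.mod (MG u) M)) (Nat.ble (nat_lit 27) j)) (Nat.ble (nat_lit 26) j)) (Nat.ble (nat_lit 25) j)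
noncomputable def dM_5 (j z1 z2 u : ℕ) : Bool :=
  Bool.rec (motive := fun _ => Bool) (Bool.rec (motive := fun _ => Bool) (Bool.rec (motive := fun _ => Bool) (mRel MG [T_b, T_a, T_b, T_a, T_bi, T_a, T_bi, T_a, T_b, T_a, T_bi, T_a, T_b, T_a, T_bi, T_a, T_b, T_a, T_bi, T_a, T_b, T_a, T_bi, T_a, T_b, T_a, T_bi, T_a] [T_a, T_b, T_a, T_b, T_a, T_bi, T_a, T_b, T_a, T_bi, T_a, T_b, T_a, T_bi, T_a, T_b, T_a, T_bi, T_a, T_b, T_a, T_bi, T_a, T_b, T_a, T_bi, T_a, T_b, T_a, T_b, T_a, T_bi, T_a, T_bi, T_a, T_b, T_a, T_b, T_a, T_bi] M (Nat.sub (MG u) (Nat.mod (MG u) M)) (nat_lit 40) z1 u (Nat.mod (MG u) M)) (mRel MG [T_b, T_a, T_bi, T_a, T_b, T_a, T_bi, T_a, T_b, T_a, T_bi, T_a, T_bi, T_a, T_b, T_a, T_b, T_a, T_bi, T_a, T_bi, T_a, T_b, T_a, T_bi, T_a, T_b, T_a, T_bi, T_a, T_b, T_a, T_bi, T_a,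 T_b, T_a] [T_a, T_b, T_a, T_bi, T_a, T_b, T_a, T_bi, T_a, T_b, T_a, T_bi, T_a, T_b, T_a, T_b, T_a, T_bi, T_a, T_bi, T_a, T_b, T_a, T_b, T_a, T_bi, T_a, T_b, T_a, T_bi, T_a, T_b] M (Nat.sub (MG u) (Nat.mod (MG u) M)) (nat_lit 40) z1 u (Nat.mod (MG u) M)) (Nat.ble (nat_lit 29) j)) (Bool.rec (motive := fun _ => Bool) (mRel MG [T_bi, T_a, T_b, T_a, T_bi, T_a, T_b, T_a, T_bi, T_a, T_b, T_a, T_b, T_a, T_bi, T_a, T_bi, T_a, T_b, T_a, T_b, T_a, T_bi, T_a, T_b, T_a, T_bi, T_a, T_b, T_a, T_bi, T_a, T_b, T_a, T_bi, T_a] [T_a, T_bi, T_a, T_b, T_a, T_bi, T_a, T_b, T_a, T_bi, T_a, T_b, T_a, T_bi, T_a, T_bi, T_a, T_b, T_a, T_b, T_a, T_bi, T_a, T_bi, T_a, T_b, T_a, T_bi, T_a, T_b, T_a, T_bi] M (Nat.sub (MG u) (Nat.mod (MG u) M)) (nat_lit 40) z1 u (Nat.mod (MG u) M)) (mRel MG [T_a, T_bi, T_a, T_b,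 T_a, T_bi, T_a, T_b, T_a, T_bi, T_a, T_b, T_a, T_bi, T_a] [T_bi, T_a, T_bi, T_a, T_b, T_a, T_b, T_a, T_bi, T_a, T_bi, T_a, T_b, T_a, T_bi, T_a, T_b, T_a, T_bi, T_a, T_b, T_a, T_bi, T_a, T_b, T_a, T_bi, T_a, T_b, T_a, T_bi, T_a, T_b, T_a, T_bi, T_a, T_bi, T_a, T_b, T_a, T_b, T_a, T_bi, T_a, T_bi, T_a, T_b, T_a, T_bi, T_a, T_b, T_a, T_bi] M (Nat.sub (MG u) (Nat.mod (MG u) M)) (nat_lit 40) z1 u (Nat.mod (MG u) M)) (Nat.ble (nat_lit 31) j)) (Nat.ble (nat_lit 30) j)) (Bool.rec (motive := fun _ => Bool) (Bool.rec (motive := fun _ => Bool) (mRel MG [T_a, T_bi, T_a, T_b, T_a, T_bi, T_a, T_b, T_a, T_bi, T_a, T_b, T_a, T_bi, T_a, T_b, T_a, T_bi, T_a, T_b] [T_bi, T_a, T_bi, T_a, T_b, T_a, T_b, T_a, T_bi, T_a, T_bi, T_a, T_b, T_a, T_bi, T_a, T_b, T_a, T_bi, T_a, T_b, T_a, T_bi, T_a, T_b, T_a,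 T_bi, T_a, T_b, T_a, T_bi, T_a, T_b, T_a, T_bi, T_a, T_bi, T_a, T_b, T_a, T_b, T_a, T_bi, T_a, T_bi, T_a, T_b, T_a] M (Nat.sub (MG u) (Nat.mod (MG u) M)) (nat_lit 40) z1 u (Nat.mod (MG u) M)) (mRel MG [T_a, T_bi, T_a, T_b, T_a, T_bi, T_a, T_b, T_a, T_bi, T_a, T_b, T_a, T_bi, T_a, T_b, T_a, T_bi, T_a, T_bi, T_a, T_b] [T_bi, T_a, T_b, T_a, T_bi, T_a, T_b, T_a, T_b, T_a, T_bi, T_a, T_bi, T_a, T_b, T_a, T_b, T_a, T_bi, T_a, T_b, T_a, T_bi, T_a, T_b, T_a, T_bi, T_a, T_b, T_a, T_bi, T_a, T_b, T_a, T_bi, T_a, T_b, T_a, T_bi, T_a, T_b, T_a, T_b, T_a, T_bi, T_a] M (Nat.sub (MG u) (Nat.mod (MG u) M)) (nat_lit 40) z1 u (Nat.mod (MG u) M)) (Nat.ble (nat_lit 33) j)) (Bool.rec (motive := fun _ => Bool) (mRel MG [T_b, T_a, T_bi, T_a, T_b, T_a, T_bi, T_a, T_b] [T_a, T_b, T_a, T_bi, T_a, T_bi, T_a,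 T_b, T_a, T_b, T_a, T_bi, T_a, T_bi, T_a, T_b, T_a, T_bi, T_a, T_b, T_a, T_bi, T_a, T_b, T_a, T_bi, T_a, T_b, T_a, T_bi, T_a, T_b, T_a, T_bi, T_a, T_b, T_a, T_bi, T_a, T_bi, T_a, T_b, T_a, T_b, T_a, T_bi, T_a, T_bi, T_a, T_b, T_a, T_bi, T_a, T_b, T_a, T_bi, T_a, T_b, T_a] M (Nat.sub (MG u) (Nat.mod (MG u) M)) (nat_lit 40) z1 u (Nat.mod (MG u) M)) (Bool.rec (motive := fun _ => Bool) (mRel MG [T_a, T_bi, T_a, T_b, T_a, T_bi, T_a, T_b, T_a, T_bi, T_a, T_b, T_a, T_bi, T_a, T_b, T_a, T_b, T_a, T_bi, T_a, T_bi, T_a, T_b, T_a, T_b, T_a, T_bi, T_a, T_b, T_a, T_bi, T_a, T_b, T_a, T_bi, T_a, T_b, T_a, T_bi] [T_bi, T_a, T_b, T_a, T_bi, T_a, T_b, T_a, T_bi, T_a, T_bi, T_a, T_b, T_a, T_b, T_a, T_bi, T_a, T_bi, T_a, T_b, T_a, T_bi, T_a, T_b, T_a, T_bi, T_a] M (Nat.sub (MG u) (Nat.mod (MG u) M))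 (nat_lit 40) z1 u (Nat.mod (MG u) M)) (mRel MG [T_a, T_bi, T_a, T_b, T_a, T_bi, T_a, T_b, T_a, T_bi, T_a, T_b, T_a, T_bi, T_a, T_b, T_a, T_bi, T_a, T_b, T_a, T_bi, T_a, T_b, T_a, T_bi, T_a, T_bi, T_a, T_b, T_a, T_b, T_a, T_bi, T_a, T_bi] [T_b, T_a, T_bi, T_a, T_bi, T_a, T_b, T_a, T_b, T_a, T_bi, T_a, T_b, T_a, T_bi, T_a, T_b, T_a, T_bi, T_a, T_b, T_a, T_bi, T_a, T_b, T_a, T_bi, T_a, T_b, T_a, T_bi, T_a] M (Nat.sub (MG u) (Nat.mod (MG u) M)) (nat_lit 40) z1 u (Nat.mod (MG u) M)) (Nat.ble (nat_lit 36) j)) (Nat.ble (nat_lit 35) j)) (Nat.ble (nat_lit 34) j)) (Nat.ble (nat_lit 32) j)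
noncomputable def dM_6 (j z1 z2 u : ℕ) : Bool :=
  Bool.rec (motive := fun _ => Bool) (dM_4 j z1 z2 u) (dM_5 j z1 z2 u) (Nat.ble (nat_lit 28) j)
noncomputable def dM_7 (j z1 z2 u : ℕ) : Bool :=
  Bool.rec (motive := fun _ => Bool) (dM_3 j z1 z2 u) (dM_6 j z1 z2 u) (Nat.ble (nat_lit 23) j)
noncomputable def dM_8 (j z1 z2 u : ℕ) : Bool :=
  Bool.rec (motive := fun _ => Bool) (dM_2 j z1 z2 u) (dM_7 j z1 z2 u) (Nat.ble (nat_lit 16) j)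
noncomputable def dM_9 (j z1 z2 u : ℕ) : Bool :=
  Bool.rec (motive := fun _ => Bool) (Bool.rec (motive := fun _ => Bool) (Bool.rec (motive := fun _ => Bool) (mRel MG [T_a, T_b, T_a, T_bi, T_a, T_b, T_a, T_bi, T_a, T_b, T_a, T_bi, T_a, T_b, T_a, T_b, T_a, T_bi, T_a, T_bi, T_a, T_b, T_a, T_b, T_a, T_bi] [T_b, T_a, T_bi, T_a, T_b, T_a, T_bi, T_a, T_b, T_a, T_bi, T_a, T_bi, T_a, T_b, T_a, T_b, T_a, T_bi, T_a, T_bi, T_a, T_b, T_a, T_bi, T_a, T_b, T_a, T_bi, T_a, T_b, T_a, T_bi, T_a, T_b, T_a, T_bi, T_a, T_b, T_a, T_bi, T_a] M (Nat.sub (MG u) (Nat.mod (MG u) M)) (nat_lit 40) z1 u (Nat.mod (MG u) M)) (mRel MG [T_bi, T_a, T_b, T_a, T_b, T_a, T_bi, T_a, T_bi, T_a, T_b, T_a, T_b, T_a, T_bi, T_a, T_b, T_a, T_bi, T_a, T_b, T_a, T_bi, T_a, T_b, T_a, T_bi] [T_a, T_bi, T_a, T_b, T_a, T_bi, T_a,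 T_b, T_a, T_bi, T_a, T_b, T_a, T_bi, T_a, T_b, T_a, T_bi, T_a, T_b, T_a, T_bi, T_a, T_bi, T_a, T_b, T_a, T_b, T_a, T_bi, T_a, T_bi, T_a, T_b, T_a, T_bi, T_a, T_b, T_a, T_bi, T_a] M (Nat.sub (MG u) (Nat.mod (MG u) M)) (nat_lit 40) z1 u (Nat.mod (MG u) M)) (Nat.ble (nat_lit 38) j)) (Bool.rec (motive := fun _ => Bool) (mRel MG [T_b, T_a, T_b, T_a, T_b, T_a, T_b, T_a, T_b, T_a, T_b, T_a, T_b] [T_a] M (Nat.sub (MG u) (Nat.mod (MG u) M)) (nat_lit 40) z1 u (Nat.mod (MG u) M)) (mRel MG [T_a, T_bi, T_a, T_bi, T_a, T_bi] [T_b, T_a, T_b, T_a, T_b, T_a, T_b, T_a] M (Nat.sub (MG u) (Nat.mod (MG u) M)) (nat_lit 40) z1 u (Nat.mod (MG u) M)) (Nat.ble (nat_lit 40) j)) (Nat.ble (nat_lit 39) j)) (Bool.rec (motive := fun _ => Bool) (Bool.rec (motive := fun _ => Bool) (mRel MG [T_bi, T_a, T_bi] [T_a,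 T_bi, T_a, T_bi, T_a, T_b, T_a, T_b, T_a, T_bi, T_a, T_b, T_a, T_bi, T_a, T_b, T_a, T_bi, T_a, T_b, T_a, T_bi, T_a, T_b, T_a, T_bi, T_a, T_b, T_a, T_bi, T_a, T_b, T_a, T_b, T_a, T_bi, T_a, T_bi, T_a, T_b, T_a, T_b, T_a, T_bi, T_a, T_b, T_a, T_bi, T_a, T_b, T_a, T_bi, T_a, T_b, T_a, T_bi, T_a, T_b, T_a, T_bi, T_a, T_b, T_a, T_bi, T_a] M (Nat.sub (MG u) (Nat.mod (MG u) M)) (nat_lit 40) z1 u (Nat.mod (MG u) M)) (mRel MG [T_a, T_b, T_a, T_b, T_a, T_bi, T_a, T_b, T_a, T_bi, T_a, T_b, T_a, T_bi, T_a, T_b, T_a, T_bi, T_a, T_b, T_a, T_bi, T_a, T_b, T_a, T_bi, T_a, T_b, T_a, T_b, T_a, T_bi, T_a, T_bi, T_a, T_b] [T_b, T_a, T_b, T_a, T_bi, T_a, T_bi, T_a, T_b, T_a, T_bi, T_a, T_b, T_a, T_bi, T_a, T_b, T_a, T_bi, T_a, T_b, T_a, T_bi, T_a, T_b, T_a, T_bi, T_a, T_b, T_a, T_bi, T_a] M (Nat.sub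 (MG u) (Nat.mod (MG u) M)) (nat_lit 40) z1 u (Nat.mod (MG u) M)) (Nat.ble (nat_lit 42) j)) (Bool.rec (motive := fun _ => Bool) (mRel MG [T_b, T_a, T_bi, T_a, T_bi, T_a, T_b, T_a, T_b, T_a, T_bi, T_a, T_b, T_a, T_bi, T_a, T_b, T_a, T_bi, T_a, T_b, T_a, T_bi, T_a, T_b, T_a, T_bi, T_a, T_b] [T_a, T_bi, T_a, T_b, T_a, T_bi, T_a, T_b, T_a, T_bi, T_a, T_b, T_a, T_bi, T_a, T_b, T_a, T_bi, T_a, T_b, T_a, T_bi, T_a, T_b, T_a, T_bi, T_a, T_bi, T_a, T_b, T_a, T_b, T_a, T_bi, T_a, T_bi, T_a, T_b, T_a] M (Nat.sub (MG u) (Nat.mod (MG u) M)) (nat_lit 40) z1 u (Nat.mod (MG u) M)) (mRel MG [T_a, T_b, T_a, T_bi, T_a, T_b, T_a, T_bi, T_a, T_b, T_a, T_bi, T_a, T_b, T_a, T_b, T_a, T_bi, T_a, T_bi, T_a, T_b] [T_b, T_a, T_bi, T_a, T_b, T_a, T_bi, T_a, T_b, T_a, T_bi, T_a, T_bi, T_a, T_b, T_a, T_b, T_a,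 T_bi, T_a, T_bi, T_a, T_b, T_a, T_bi, T_a, T_b, T_a, T_bi, T_a, T_b, T_a, T_bi, T_a, T_b, T_a, T_bi, T_a, T_b, T_a, T_bi, T_a, T_b, T_a, T_bi, T_a] M (Nat.sub (MG u) (Nat.mod (MG u) M)) (nat_lit 40) z1 u (Nat.mod (MG u) M)) (Nat.ble (nat_lit 44) j)) (Nat.ble (nat_lit 43) j)) (Nat.ble (nat_lit 41) j)
noncomputable def dM_10 (j z1 z2 u : ℕ) : Bool :=
  Bool.rec (motive := fun _ => Bool) (Bool.rec (motive := fun _ => Bool) (Bool.rec (motive := fun _ => Bool) (mRel MG [T_b, T_a, T_bi, T_a, T_b, T_a, T_b, T_a, T_bi, T_a, T_bi, T_a, T_b, T_a, T_b, T_a, T_bi, T_a, T_b, T_a, T_bi, T_a, T_b, T_a, T_bi, T_a, T_b, T_a, T_bi, T_a, T_b, T_a, T_bi, T_a, T_b, T_a, T_bi, T_a, T_b, T_a, T_b, T_a, T_bi] [T_a, T_b, T_a, T_bi, T_a, T_b, T_a, T_bi, T_a, T_b, T_a, T_bi, T_a, T_b, T_a, T_bi, T_a, T_b,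 T_a, T_bi, T_a, T_bi, T_a, T_b, T_a] M (Nat.sub (MG u) (Nat.mod (MG u) M)) (nat_lit 40) z1 u (Nat.mod (MG u) M)) (mRel MG [T_bi, T_a, T_b, T_a, T_bi, T_a, T_b, T_a, T_bi, T_a, T_b, T_a, T_bi, T_a, T_b, T_a, T_bi, T_a, T_b, T_a, T_b, T_a, T_bi, T_a, T_bi, T_a, T_b, T_a, T_b, T_a] [T_a, T_bi, T_a, T_b, T_a, T_bi, T_a, T_bi, T_a, T_b, T_a, T_b, T_a, T_bi, T_a, T_bi, T_a, T_b, T_a, T_bi, T_a, T_b, T_a, T_bi, T_a, T_b, T_a, T_bi, T_a, T_b, T_a, T_bi, T_a, T_b, T_a, T_bi, T_a, T_b] M (Nat.sub (MG u) (Nat.mod (MG u) M)) (nat_lit 40) z1 u (Nat.mod (MG u) M)) (Nat.ble (nat_lit 46) j)) (Bool.rec (motive := fun _ => Bool) (mRel MG [T_a, T_b, T_a, T_bi, T_a, T_b, T_a, T_bi, T_a, T_b, T_a, T_bi, T_a, T_b, T_a, T_bi, T_a, T_b, T_a, T_bi, T_a, T_bi, T_a, T_b, T_a, T_b, T_a, T_bi, T_a, T_bi, T_a,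 T_b, T_a, T_bi, T_a, T_b, T_a] [T_b, T_a, T_bi, T_a, T_b, T_a, T_b, T_a, T_bi, T_a, T_bi, T_a, T_b, T_a, T_b, T_a, T_bi, T_a, T_b, T_a, T_bi, T_a, T_b, T_a, T_bi, T_a, T_b, T_a, T_bi, T_a, T_b] M (Nat.sub (MG u) (Nat.mod (MG u) M)) (nat_lit 40) z1 u (Nat.mod (MG u) M)) (mRel MG [T_a, T_bi, T_a, T_bi, T_a, T_b, T_a, T_b, T_a, T_bi, T_a, T_bi, T_a, T_b, T_a, T_bi, T_a, T_b] [T_bi, T_a, T_b, T_a, T_bi, T_a, T_b, T_a, T_bi, T_a, T_b, T_a, T_bi, T_a, T_b, T_a, T_bi, T_a, T_b, T_a, T_bi, T_a, T_b, T_a, T_b, T_a, T_bi, T_a, T_bi, T_a, T_b, T_a, T_b, T_a, T_bi, T_a, T_b, T_a, T_bi, T_a, T_b, T_a, T_bi, T_a, T_b, T_a, T_bi, T_a, T_b, T_a] M (Nat.sub (MG u) (Nat.mod (MG u) M)) (nat_lit 40) z1 u (Nat.mod (MG u) M)) (Nat.ble (nat_lit 48) j)) (Nat.ble (nat_lit 47) j)) (Bool.rec (motive := fun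 _ => Bool) (Bool.rec (motive := fun _ => Bool) (mRel MG [T_a, T_b, T_a, T_bi, T_a, T_bi, T_a, T_b, T_a, T_b, T_a, T_bi, T_a, T_b, T_a, T_bi, T_a, T_b, T_a, T_bi, T_a, T_b, T_a, T_bi, T_a, T_b, T_a, T_bi, T_a, T_b, T_a, T_bi, T_a, T_b, T_a, T_b, T_a] [T_bi, T_a, T_b, T_a, T_bi, T_a, T_b, T_a, T_bi, T_a, T_b, T_a, T_bi, T_a, T_b, T_a, T_bi, T_a, T_b, T_a, T_bi, T_a, T_b, T_a, T_bi, T_a, T_bi, T_a, T_b, T_a, T_b] M (Nat.sub (MG u) (Nat.mod (MG u) M)) (nat_lit 40) z1 u (Nat.mod (MG u) M)) (mRel MG [T_a, T_bi, T_a, T_bi] [T_b, T_a, T_b, T_a, T_b, T_a, T_b, T_a, T_b, T_a] M (Nat.sub (MG u) (Nat.mod (MG u) M)) (nat_lit 40) z1 u (Nat.mod (MG u) M)) (Nat.ble (nat_lit 50) j)) (Bool.rec (motive := fun _ => Bool) (mRel MG [T_a, T_b, T_a, T_bi, T_a, T_b, T_a, T_bi, T_a, T_b, T_a, T_bi, T_a,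 T_b, T_a, T_bi, T_a, T_b, T_a, T_bi, T_a, T_b, T_a, T_bi, T_a, T_bi, T_a, T_b, T_a, T_b, T_a, T_bi, T_a, T_bi, T_a, T_b, T_a, T_bi, T_a, T_b, T_a, T_bi, T_a, T_b, T_a, T_bi, T_a, T_b, T_a, T_bi, T_a] [T_b, T_a, T_b, T_a, T_bi, T_a, T_bi, T_a, T_b, T_a, T_b, T_a, T_bi, T_a, T_b, T_a, T_bi] M (Nat.sub (MG u) (Nat.mod (MG u) M)) (nat_lit 40) z1 u (Nat.mod (MG u) M)) (Bool.rec (motive := fun _ => Bool) (mRel MG [T_b, T_a, T_bi, T_a, T_b, T_a, T_bi, T_a, T_b, T_a, T_bi, T_a, T_b, T_a, T_bi, T_a, T_b, T_a, T_b, T_a, T_bi, T_a, T_bi, T_a, T_b, T_a] [T_a, T_b, T_a, T_bi, T_a, T_b, T_a, T_bi, T_a, T_bi, T_a, T_b, T_a, T_b, T_a, T_bi, T_a, T_bi, T_a, T_b, T_a, T_bi, T_a, T_b, T_a, T_bi, T_a, T_b, T_a, T_bi, T_a, T_b, T_a, T_bi, T_a, T_b, T_a, T_bi, T_a, T_b, T_a, T_bi] M (Nat.sub (MG u) (Nat.mod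 (MG u) M)) (nat_lit 40) z1 u (Nat.mod (MG u) M)) (mRel MG [T_b, T_a, T_bi, T_a, T_b, T_a, T_bi, T_a, T_b, T_a, T_bi, T_a, T_b, T_a, T_bi, T_a, T_b, T_a, T_bi, T_a, T_b, T_a, T_b, T_a, T_bi, T_a, T_bi, T_a, T_b, T_a, T_b, T_a, T_bi, T_a, T_b, T_a, T_bi, T_a, T_b, T_a, T_bi, T_a, T_b, T_a, T_bi, T_a, T_b, T_a, T_bi, T_a] [T_a, T_b, T_a, T_bi, T_a, T_bi, T_a, T_b, T_a, T_b, T_a, T_bi, T_a, T_bi, T_a, T_b, T_a, T_bi] M (Nat.sub (MG u) (Nat.mod (MG u) M)) (nat_lit 40) z1 u (Nat.mod (MG u) M)) (Nat.ble (nat_lit 53) j)) (Nat.ble (nat_lit 52) j)) (Nat.ble (nat_lit 51) j)) (Nat.ble (nat_lit 49) j)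
noncomputable def dM_11 (j z1 z2 u : ℕ) : Bool :=
  Bool.rec (motive := fun _ => Bool) (dM_9 j z1 z2 u) (dM_10 j z1 z2 u) (Nat.ble (nat_lit 45) j)
noncomputable def dM_12 (j z1 z2 u : ℕ) : Bool :=
  Bool.rec (motive := fun _ => Bool) (Bool.rec (motive := fun _ => Bool) (Bool.rec (motive := fun _ => Bool) (mRel MG [T_a, T_bi, T_a, T_b, T_a, T_bi, T_a, T_b, T_a, T_bi, T_a, T_b, T_a, T_b, T_a, T_bi, T_a, T_bi, T_a, T_b, T_a, T_b, T_a, T_bi, T_a, T_b, T_a, T_bi, T_a] [T_bi, T_a, T_b, T_a, T_bi, T_a, T_b, T_a, T_bi, T_a, T_b, T_a, T_bi, T_a, T_bi, T_a, T_b, T_a, T_b, T_a, T_bi, T_a, T_bi, T_a, T_b, T_a, T_bi, T_a, T_b, T_a, T_bi, T_a, T_b, T_a, T_bi, T_a, T_b, T_a, T_bi] M (Nat.sub (MG u) (Nat.mod (MG u) M)) (nat_lit 40) z1 u (Nat.mod (MG u) M)) (mRel MG [T_a, T_bi, T_a, T_b, T_a, T_bi,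 T_a, T_b, T_a, T_bi, T_a, T_b, T_a, T_bi, T_a, T_b, T_a, T_bi, T_a, T_bi, T_a, T_b, T_a, T_b, T_a, T_bi, T_a, T_bi, T_a, T_b, T_a, T_bi, T_a, T_b, T_a, T_bi, T_a, T_b, T_a, T_bi, T_a, T_b, T_a, T_bi, T_a, T_b, T_a] [T_bi, T_a, T_b, T_a, T_bi, T_a, T_b, T_a, T_b, T_a, T_bi, T_a, T_bi, T_a, T_b, T_a, T_b, T_a, T_bi, T_a, T_b] M (Nat.sub (MG u) (Nat.mod (MG u) M)) (nat_lit 40) z1 u (Nat.mod (MG u) M)) (Nat.ble (nat_lit 55) j)) (Bool.rec (motive := fun _ => Bool) (mRel MG [T_b, T_a, T_bi, T_a, T_bi, T_a, T_b, T_a, T_bi, T_a, T_b, T_a, T_bi, T_a, T_b, T_a, T_bi, T_a, T_b, T_a, T_bi, T_a, T_b, T_a, T_bi, T_a, T_b, T_a, T_bi, T_a] [T_a, T_bi, T_a, T_b, T_a, T_b, T_a, T_bi, T_a, T_b, T_a, T_bi, T_a, T_b, T_a, T_bi, T_a, T_b, T_a, T_bi, T_a, T_b, T_a, T_bi, T_a, T_b, T_a, T_bi, T_a, T_b,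 T_a, T_b, T_a, T_bi, T_a, T_bi, T_a, T_b] M (Nat.sub (MG u) (Nat.mod (MG u) M)) (nat_lit 40) z1 u (Nat.mod (MG u) M)) (mRel MG [T_a, T_bi, T_a, T_bi, T_a, T_b, T_a, T_b, T_a, T_bi, T_a, T_b, T_a, T_bi, T_a, T_b, T_a, T_bi, T_a, T_b, T_a, T_bi, T_a, T_b, T_a, T_bi, T_a, T_b, T_a, T_bi, T_a, T_b, T_a, T_b, T_a] [T_bi, T_a, T_bi, T_a, T_b, T_a, T_bi, T_a, T_b, T_a, T_bi, T_a, T_b, T_a, T_bi, T_a, T_b, T_a, T_bi, T_a, T_b, T_a, T_bi, T_a, T_b, T_a, T_bi, T_a, T_bi, T_a, T_b, T_a, T_b] M (Nat.sub (MG u) (Nat.mod (MG u) M)) (nat_lit 40) z1 u (Nat.mod (MG u) M)) (Nat.ble (nat_lit 57) j)) (Nat.ble (nat_lit 56) j)) (Bool.rec (motive := fun _ => Bool) (Bool.rec (motive := fun _ => Bool) (mRel MG [T_a, T_bi, T_a, T_b, T_a, T_b, T_a, T_bi, T_a, T_b, T_a, T_bi, T_a, T_b, T_a, T_bi, T_a, T_b,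 T_a, T_bi, T_a, T_b, T_a] [T_b, T_a, T_bi, T_a, T_bi, T_a, T_b, T_a, T_bi, T_a, T_b, T_a, T_bi, T_a, T_b, T_a, T_bi, T_a, T_b, T_a, T_bi, T_a, T_b, T_a, T_bi, T_a, T_b, T_a, T_bi, T_a, T_bi, T_a, T_b, T_a, T_b, T_a, T_bi, T_a, T_bi, T_a, T_b, T_a, T_bi, T_a, T_b] M (Nat.sub (MG u) (Nat.mod (MG u) M)) (nat_lit 40) z1 u (Nat.mod (MG u) M)) (mRel MG [T_b, T_a, T_bi, T_a, T_b, T_a, T_bi, T_a, T_b, T_a, T_bi, T_a, T_bi, T_a, T_b, T_a, T_b, T_a, T_bi, T_a, T_bi, T_a, T_b, T_a] [T_a, T_b, T_a, T_bi, T_a, T_b, T_a, T_bi, T_a, T_b, T_a, T_bi, T_a, T_b, T_a, T_b, T_a, T_bi, T_a, T_bi, T_a, T_b, T_a, T_b, T_a, T_bi, T_a, T_b, T_a, T_bi, T_a, T_b, T_a, T_bi, T_a, T_b, T_a, T_bi, T_a, T_b, T_a, T_bi, T_a, T_b] M (Nat.sub (MG u) (Nat.mod (MG u) M)) (nat_lit 40) z1 u (Nat.mod (MG u) M)) (Nat.ble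 (nat_lit 59) j)) (Bool.rec (motive := fun _ => Bool) (mRel MG [T_b, T_a, T_bi, T_a, T_bi, T_a, T_b, T_a, T_b, T_a, T_bi, T_a, T_bi, T_a, T_b, T_a, T_bi, T_a, T_b, T_a, T_bi, T_a, T_b, T_a, T_bi, T_a, T_b, T_a, T_bi, T_a, T_b, T_a, T_bi, T_a] [T_a, T_b, T_a, T_bi, T_a, T_b, T_a, T_bi, T_a, T_b, T_a, T_bi, T_a, T_b, T_a, T_bi, T_a, T_b, T_a, T_bi, T_a, T_b, T_a, T_b, T_a, T_bi, T_a, T_bi, T_a, T_b, T_a, T_b, T_a, T_bi] M (Nat.sub (MG u) (Nat.mod (MG u) M)) (nat_lit 40) z1 u (Nat.mod (MG u) M)) (mRel MG [T_a, T_b, T_a, T_bi, T_a, T_b, T_a, T_bi, T_a, T_b, T_a, T_bi, T_a, T_b, T_a, T_bi, T_a, T_b, T_a, T_bi, T_a, T_b, T_a, T_bi, T_a, T_b, T_a, T_b, T_a, T_bi, T_a, T_bi, T_a, T_b, T_a, T_b, T_a, T_bi, T_a, T_b, T_a, T_bi, T_a, T_b, T_a, T_bi, T_a, T_b, T_a] [T_bi, T_a, T_b, T_a, T_b,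 T_a, T_bi, T_a, T_bi, T_a, T_b, T_a, T_bi, T_a, T_b, T_a, T_bi, T_a, T_b] M (Nat.sub (MG u) (Nat.mod (MG u) M)) (nat_lit 40) z1 u (Nat.mod (MG u) M)) (Nat.ble (nat_lit 61) j)) (Nat.ble (nat_lit 60) j)) (Nat.ble (nat_lit 58) j)
noncomputable def dM_13 (j z1 z2 u : ℕ) : Bool :=
  Bool.rec (motive := fun _ => Bool) (Bool.rec (motive := fun _ => Bool) (Bool.rec (motive := fun _ => Bool) (mRel MG [T_a, T_b, T_a, T_bi, T_a, T_b, T_a, T_bi, T_a, T_b, T_a, T_bi, T_a, T_b, T_a, T_b, T_a, T_bi, T_a, T_bi, T_a, T_b, T_a, T_b, T_a, T_bi, T_a, T_b, T_a] [T_b, T_a, T_bi, T_a, T_b, T_a, T_bi, T_a, T_b, T_a, T_bi, T_a, T_bi, T_a, T_b, T_a, T_b, T_a, T_bi, T_a, T_bi, T_a, T_b, T_a, T_bi, T_a, T_b, T_a, T_bi, T_a, T_b, T_a, T_bi, T_a, T_b, T_a, T_bi, T_a, T_b] M (Nat.sub (MG u) (Nat.mod (MG u) M))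 (nat_lit 40) z1 u (Nat.mod (MG u) M)) (mRel MG [T_b, T_a, T_b] [T_a, T_bi, T_a, T_bi, T_a, T_bi, T_a, T_bi, T_a, T_bi, T_a] M (Nat.sub (MG u) (Nat.mod (MG u) M)) (nat_lit 40) z1 u (Nat.mod (MG u) M)) (Nat.ble (nat_lit 63) j)) (Bool.rec (motive := fun _ => Bool) (mRel MG [T_b, T_a, T_bi, T_a, T_b, T_a, T_bi, T_a, T_b, T_a, T_b, T_a, T_bi, T_a, T_bi, T_a, T_b, T_a, T_b, T_a, T_bi, T_a, T_b, T_a, T_bi, T_a, T_b, T_a, T_bi, T_a, T_b, T_a, T_bi, T_a, T_b, T_a, T_bi, T_a, T_b, T_a] [T_a, T_b, T_a, T_bi, T_a, T_b, T_a, T_bi, T_a, T_b, T_a, T_bi, T_a, T_b, T_a, T_bi, T_a, T_bi, T_a, T_b, T_a, T_b, T_a, T_bi, T_a, T_bi, T_a, T_b] M (Nat.sub (MG u) (Nat.mod (MG u) M)) (nat_lit 40) z1 u (Nat.mod (MG u) M)) (mRel MG [T_a, T_bi, T_a, T_b, T_a, T_bi, T_a, T_b, T_a, T_bi, T_a, T_b, T_a, T_b, T_a,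 T_bi, T_a, T_bi, T_a, T_b, T_a, T_b, T_a, T_bi, T_a, T_b, T_a, T_bi, T_a, T_b, T_a, T_bi, T_a, T_b, T_a, T_bi, T_a, T_b, T_a, T_bi, T_a, T_b, T_a, T_bi, T_a, T_b, T_a, T_b, T_a] [T_bi, T_a, T_b, T_a, T_bi, T_a, T_b, T_a, T_bi, T_a, T_b, T_a, T_bi, T_a, T_bi, T_a, T_b, T_a, T_b] M (Nat.sub (MG u) (Nat.mod (MG u) M)) (nat_lit 40) z1 u (Nat.mod (MG u) M)) (Nat.ble (nat_lit 65) j)) (Nat.ble (nat_lit 64) j)) (Bool.rec (motive := fun _ => Bool) (Bool.rec (motive := fun _ => Bool) (mRel MG [T_bi, T_a, T_bi, T_a, T_b, T_a, T_b, T_a, T_bi, T_a, T_b, T_a, T_bi, T_a, T_b, T_a] [T_a, T_bi, T_a, T_bi, T_a, T_b, T_a, T_bi, T_a, T_b, T_a, T_bi, T_a, T_b, T_a, T_bi, T_a, T_b, T_a, T_bi, T_a, T_b, T_a, T_bi, T_a, T_b, T_a, T_bi, T_a, T_bi, T_a, T_b, T_a, T_b, T_a, T_bi, T_a, T_bi, T_a, T_b, T_a,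 T_bi, T_a, T_b, T_a, T_bi, T_a, T_b, T_a, T_bi, T_a, T_b] M (Nat.sub (MG u) (Nat.mod (MG u) M)) (nat_lit 40) z1 u (Nat.mod (MG u) M)) (mRel MG [T_a, T_bi, T_a, T_b, T_a, T_bi, T_a, T_b, T_a, T_bi, T_a, T_bi, T_a, T_b, T_a, T_b, T_a, T_bi, T_a, T_bi, T_a] [T_bi, T_a, T_b, T_a, T_bi, T_a, T_b, T_a, T_bi, T_a, T_b, T_a, T_bi, T_a, T_b, T_a, T_b, T_a, T_bi, T_a, T_bi, T_a, T_b, T_a, T_b, T_a, T_bi, T_a, T_b, T_a, T_bi, T_a, T_b, T_a, T_bi, T_a, T_b, T_a, T_bi, T_a, T_b, T_a, T_bi, T_a, T_b, T_a, T_bi] M (Nat.sub (MG u) (Nat.mod (MG u) M)) (nat_lit 40) z1 u (Nat.mod (MG u) M)) (Nat.ble (nat_lit 67) j)) (Bool.rec (motive := fun _ => Bool) (mRel MG [T_b, T_a, T_bi, T_a, T_b, T_a, T_bi, T_a, T_b, T_a, T_bi, T_a, T_b, T_a, T_bi, T_a, T_b, T_a, T_bi, T_a, T_b, T_a, T_b, T_a, T_bi, T_a, T_bi,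 T_a, T_b, T_a, T_b, T_a, T_bi, T_a, T_b, T_a, T_bi, T_a, T_b, T_a, T_bi, T_a, T_b, T_a, T_bi, T_a, T_b, T_a, T_bi, T_a, T_b, T_a, T_bi, T_a, T_b, T_a, T_b, T_a] [T_a, T_b, T_a, T_bi, T_a, T_bi, T_a, T_b, T_a, T_b] M (Nat.sub (MG u) (Nat.mod (MG u) M)) (nat_lit 40) z1 u (Nat.mod (MG u) M)) (Bool.rec (motive := fun _ => Bool) (mRel MG [T_b, T_a, T_b, T_a, T_bi, T_a, T_bi, T_a, T_b, T_a, T_b, T_a, T_bi, T_a, T_b, T_a, T_bi, T_a, T_b, T_a, T_bi, T_a, T_b, T_a, T_bi, T_a, T_b, T_a, T_bi, T_a, T_b, T_a, T_bi, T_a, T_b, T_a, T_b, T_a, T_bi, T_a, T_bi, T_a, T_b, T_a, T_b, T_a, T_bi, T_a, T_b, T_a, T_bi, T_a, T_b, T_a, T_bi, T_a, T_b, T_a, T_bi, T_a, T_b, T_a, T_bi, T_a] [T_a, T_b, T_a, T_bi] M (Nat.sub (MG u) (Nat.mod (MG u) M)) (nat_lit 40) z1 u (Nat.mod (MG u) M)) (mRel MG [T_a, T_b,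 T_a, T_bi, T_a, T_b, T_a, T_bi, T_a, T_b, T_a, T_bi, T_a, T_b, T_a, T_bi, T_a, T_b, T_a, T_bi, T_a, T_bi, T_a, T_b, T_a, T_b, T_a, T_bi, T_a, T_bi, T_a, T_b, T_a, T_bi, T_a, T_b, T_a, T_bi, T_a, T_b, T_a, T_bi, T_a, T_b, T_a, T_bi, T_a, T_b, T_a, T_bi, T_a, T_b, T_a, T_bi, T_a, T_bi, T_a, T_b, T_a, T_b, T_a, T_bi, T_a, T_bi, T_a, T_b] [T_b, T_a] M (Nat.sub (MG u) (Nat.mod (MG u) M)) (nat_lit 40) z1 u (Nat.mod (MG u) M)) (Nat.ble (nat_lit 70) j)) (Nat.ble (nat_lit 69) j)) (Nat.ble (nat_lit 68) j)) (Nat.ble (nat_lit 66) j)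
noncomputable def dM_14 (j z1 z2 u : ℕ) : Bool :=
  Bool.rec (motive := fun _ => Bool) (dM_12 j z1 z2 u) (dM_13 j z1 z2 u) (Nat.ble (nat_lit 62) j)
noncomputable def dM_15 (j z1 z2 u : ℕ) : Bool :=
  Bool.rec (motive := fun _ => Bool) (dM_11 j z1 z2 u) (dM_14 j z1 z2 u) (Nat.ble (nat_lit 54) j)
noncomputable def dM_16 (j z1 z2 u : ℕ) : Bool :=
  Bool.rec (motive := fun _ => Bool) (Bool.rec (motive := fun _ => Bool) (Bool.rec (motive := fun _ => Bool) (mRel MG [T_bi, T_a, T_b, T_a, T_bi, T_a, T_b, T_a, T_bi, T_a, T_b, T_a, T_bi, T_a, T_b, T_a, T_bi, T_a, T_bi, T_a, T_b, T_a, T_b, T_a, T_bi, T_a, T_bi, T_a, T_b, T_a, T_bi, T_a, T_b, T_a] [T_a, T_bi, T_a, T_b, T_a, T_bi, T_a, T_b, T_a, T_b, T_a, T_bi, T_a, T_bi, T_a, T_b, T_a, T_b, T_a, T_bi, T_a, T_b, T_a, T_bi, T_a, T_b, T_a, T_bi,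 T_a, T_b, T_a, T_bi, T_a, T_b] M (Nat.sub (MG u) (Nat.mod (MG u) M)) (nat_lit 40) z1 u (Nat.mod (MG u) M)) (mRel MG [T_bi, T_a, T_bi, T_a, T_b, T_a, T_b, T_a, T_bi, T_a, T_bi, T_a, T_b, T_a, T_bi, T_a, T_b, T_a, T_bi, T_a, T_b, T_a, T_bi, T_a, T_b, T_a, T_bi, T_a, T_b, T_a, T_bi, T_a, T_b, T_a, T_bi, T_a] [T_a, T_bi, T_a, T_b, T_a, T_bi, T_a, T_b, T_a, T_bi, T_a, T_b, T_a, T_bi, T_a, T_b, T_a, T_bi, T_a, T_b, T_a, T_bi, T_a, T_b, T_a, T_b, T_a, T_bi, T_a, T_bi, T_a, T_b] M (Nat.sub (MG u) (Nat.mod (MG u) M)) (nat_lit 40) z1 u (Nat.mod (MG u) M)) (Nat.ble (nat_lit 72) j)) (Bool.rec (motive := fun _ => Bool) (mRel MG [T_b, T_a, T_bi, T_a, T_bi, T_a, T_b, T_a, T_b, T_a, T_bi, T_a, T_bi, T_a, T_b, T_a] [T_a, T_b, T_a, T_bi, T_a, T_b, T_a, T_bi, T_a, T_b, T_a, T_bi, T_a, T_b, T_a, T_bi,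 T_a, T_b, T_a, T_bi, T_a, T_b, T_a, T_b, T_a, T_bi, T_a, T_bi, T_a, T_b, T_a, T_b, T_a, T_bi, T_a, T_b, T_a, T_bi, T_a, T_b, T_a, T_bi, T_a, T_b, T_a, T_bi, T_a, T_b, T_a, T_bi, T_a, T_b] M (Nat.sub (MG u) (Nat.mod (MG u) M)) (nat_lit 40) z1 u (Nat.mod (MG u) M)) (mRel MG [T_a, T_b, T_a, T_bi, T_a, T_b, T_a, T_bi, T_a, T_b, T_a, T_bi, T_a, T_b, T_a, T_bi, T_a] [T_b, T_a, T_bi, T_a, T_bi, T_a, T_b, T_a, T_b, T_a, T_bi, T_a, T_bi, T_a, T_b, T_a, T_bi, T_a, T_b, T_a, T_bi, T_a, T_b, T_a, T_bi, T_a, T_b, T_a, T_bi, T_a, T_b, T_a, T_bi, T_a, T_b, T_a, T_bi, T_a, T_bi, T_a, T_b, T_a, T_b, T_a, T_bi, T_a, T_bi, T_a, T_b, T_a, T_bi] M (Nat.sub (MG u) (Nat.mod (MG u) M)) (nat_lit 40) z1 u (Nat.mod (MG u) M)) (Nat.ble (nat_lit 74) j)) (Nat.ble (nat_lit 73) j)) (Bool.rec (motive := fun _ =>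 Bool) (Bool.rec (motive := fun _ => Bool) (mRel MG [T_a, T_bi, T_a, T_b, T_a, T_b, T_a, T_bi, T_a, T_bi, T_a, T_b, T_a, T_b, T_a, T_bi, T_a, T_b, T_a, T_bi, T_a, T_b, T_a, T_bi, T_a, T_b, T_a, T_bi, T_a, T_b, T_a] [T_bi, T_a, T_b, T_a, T_bi, T_a, T_b, T_a, T_bi, T_a, T_b, T_a, T_bi, T_a, T_b, T_a, T_bi, T_a, T_b, T_a, T_bi, T_a, T_bi, T_a, T_b, T_a, T_b, T_a, T_bi, T_a, T_bi, T_a, T_b, T_a, T_bi, T_a, T_b] M (Nat.sub (MG u) (Nat.mod (MG u) M)) (nat_lit 40) z1 u (Nat.mod (MG u) M)) (mRel MG [T_b, T_a, T_bi, T_a, T_b, T_a, T_bi, T_a, T_b, T_a, T_bi, T_a, T_b, T_a, T_bi, T_a, T_bi, T_a, T_b, T_a, T_b, T_a, T_bi, T_a] [T_a, T_b, T_a, T_bi, T_a, T_b, T_a, T_bi, T_a, T_b, T_a, T_b, T_a, T_bi, T_a, T_bi, T_a, T_b, T_a, T_b, T_a, T_bi, T_a, T_b, T_a, T_bi, T_a, T_b, T_a, T_bi, T_a, T_b,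 T_a, T_bi, T_a, T_b, T_a, T_bi, T_a, T_b, T_a, T_bi, T_a, T_b] M (Nat.sub (MG u) (Nat.mod (MG u) M)) (nat_lit 40) z1 u (Nat.mod (MG u) M)) (Nat.ble (nat_lit 76) j)) (Bool.rec (motive := fun _ => Bool) (mRel MG [T_b, T_a, T_bi, T_a, T_b, T_a, T_bi, T_a, T_bi, T_a, T_b, T_a, T_b, T_a, T_bi, T_a, T_bi, T_a, T_b, T_a, T_bi, T_a, T_b, T_a, T_bi, T_a, T_b, T_a, T_bi, T_a, T_b, T_a] [T_a, T_b, T_a, T_bi, T_a, T_b, T_a, T_bi, T_a, T_b, T_a, T_bi, T_a, T_b, T_a, T_bi, T_a, T_b, T_a, T_b, T_a, T_bi, T_a, T_bi, T_a, T_b, T_a, T_b, T_a, T_bi, T_a, T_b, T_a, T_bi, T_a, T_b] M (Nat.sub (MG u) (Nat.mod (MG u) M)) (nat_lit 40) z1 u (Nat.mod (MG u) M)) (mRel MG [T_a, T_bi, T_a, T_b, T_a, T_bi, T_a, T_b, T_a, T_bi, T_a, T_b, T_a, T_bi, T_a, T_b, T_a, T_bi, T_a, T_b, T_a, T_bi, T_a, T_bi, T_a, T_b,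 T_a, T_b, T_a, T_bi, T_a, T_bi, T_a, T_b, T_a, T_bi, T_a, T_b, T_a, T_bi, T_a, T_b, T_a] [T_bi, T_a, T_b, T_a, T_b, T_a, T_bi, T_a, T_bi, T_a, T_b, T_a, T_b, T_a, T_bi, T_a, T_b, T_a, T_bi, T_a, T_b, T_a, T_bi, T_a, T_b] M (Nat.sub (MG u) (Nat.mod (MG u) M)) (nat_lit 40) z1 u (Nat.mod (MG u) M)) (Nat.ble (nat_lit 78) j)) (Nat.ble (nat_lit 77) j)) (Nat.ble (nat_lit 75) j)
noncomputable def dM_17 (j z1 z2 u : ℕ) : Bool :=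
  Bool.rec (motive := fun _ => Bool) (Bool.rec (motive := fun _ => Bool) (Bool.rec (motive := fun _ => Bool) (mRel MG [T_a, T_b, T_a, T_b, T_a, T_bi, T_a, T_bi, T_a, T_b, T_a, T_bi, T_a, T_b, T_a, T_bi, T_a, T_b, T_a, T_bi, T_a, T_b, T_a, T_bi, T_a, T_b, T_a, T_bi, T_a, T_b, T_a, T_bi, T_a, T_bi, T_a, T_b, T_a, T_b, T_a, T_bi, T_a, T_bi, T_a, T_b, T_a, T_bi, T_a, T_b, T_a, T_bi, T_a, T_b, T_a, T_bi, T_a] [T_b, T_a, T_b, T_a, T_bi, T_a, T_b, T_a, T_bi, T_a, T_b, T_a, T_bi] M (Nat.sub (MG u) (Nat.mod (MG u) M)) (nat_lit 40) z1 u (Nat.mod (MG u) M)) (mRel MG [T_bi, T_a, T_b, T_a, T_bi, T_a, T_b, T_a, T_bi, T_a, T_b, T_a, T_bi, T_a, T_b, T_a, T_bi, T_a, T_b, T_a, T_bi, T_a, T_b, T_a, T_bi, T_a, T_bi, T_a, T_b, T_a, T_b, T_a, T_bi, T_a, T_bi] [T_a, T_b, T_a, T_bi, T_a, T_bi, T_a, T_b,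 T_a, T_b, T_a, T_bi, T_a, T_b, T_a, T_bi, T_a, T_b, T_a, T_bi, T_a, T_b, T_a, T_bi, T_a, T_b, T_a, T_bi, T_a, T_b, T_a, T_bi, T_a] M (Nat.sub (MG u) (Nat.mod (MG u) M)) (nat_lit 40) z1 u (Nat.mod (MG u) M)) (Nat.ble (nat_lit 80) j)) (Bool.rec (motive := fun _ => Bool) (mRel MG [T_b, T_a, T_bi, T_a, T_b, T_a, T_bi, T_a, T_b, T_a, T_bi, T_a, T_b, T_a, T_bi, T_a, T_bi, T_a, T_b, T_a, T_b, T_a, T_bi, T_a, T_bi, T_a, T_b, T_a, T_bi, T_a, T_b, T_a, T_bi, T_a, T_b, T_a, T_bi, T_a, T_b, T_a] [T_a, T_b, T_a, T_bi, T_a, T_b, T_a, T_bi, T_a, T_b, T_a, T_b, T_a, T_bi, T_a, T_bi, T_a, T_b, T_a, T_b, T_a, T_bi, T_a, T_b, T_a, T_bi, T_a, T_b] M (Nat.sub (MG u) (Nat.mod (MG u) M)) (nat_lit 40) z1 u (Nat.mod (MG u) M)) (mRel MG [T_bi, T_a, T_b, T_a, T_bi, T_a, T_b, T_a, T_bi, T_a, T_b, T_a, T_bi,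 T_a, T_bi, T_a, T_b, T_a, T_b, T_a, T_bi, T_a, T_bi, T_a, T_b, T_a, T_bi, T_a, T_b, T_a, T_bi, T_a, T_b, T_a, T_bi, T_a, T_b, T_a, T_bi, T_a, T_b, T_a, T_bi, T_a] [T_a, T_bi, T_a, T_b, T_a, T_bi, T_a, T_b, T_a, T_bi, T_a, T_b, T_a, T_b, T_a, T_bi, T_a, T_bi, T_a, T_b, T_a, T_b, T_a, T_bi] M (Nat.sub (MG u) (Nat.mod (MG u) M)) (nat_lit 40) z1 u (Nat.mod (MG u) M)) (Nat.ble (nat_lit 82) j)) (Nat.ble (nat_lit 81) j)) (Bool.rec (motive := fun _ => Bool) (Bool.rec (motive := fun _ => Bool) (mRel MG [T_a, T_b, T_a, T_bi, T_a, T_b, T_a, T_bi, T_a, T_b, T_a, T_bi, T_a, T_b, T_a, T_bi, T_a, T_b, T_a, T_bi, T_a, T_b, T_a, T_b, T_a, T_bi, T_a, T_bi, T_a, T_b, T_a, T_b, T_a, T_bi, T_a, T_b, T_a, T_bi, T_a] [T_b, T_a, T_bi, T_a, T_bi, T_a, T_b, T_a, T_b, T_a, T_bi, T_a, T_bi, T_a, T_b, T_a,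 T_bi, T_a, T_b, T_a, T_bi, T_a, T_b, T_a, T_bi, T_a, T_b, T_a, T_bi] M (Nat.sub (MG u) (Nat.mod (MG u) M)) (nat_lit 40) z1 u (Nat.mod (MG u) M)) (mRel MG [T_b, T_a, T_bi, T_a, T_b, T_a, T_bi, T_a, T_b, T_a, T_bi, T_a, T_bi, T_a, T_b, T_a, T_b, T_a, T_bi, T_a, T_bi, T_a, T_b, T_a, T_bi, T_a, T_b, T_a, T_bi, T_a, T_b, T_a, T_bi, T_a, T_b, T_a, T_bi, T_a, T_b, T_a, T_bi, T_a, T_b, T_a, T_bi, T_a, T_bi, T_a] [T_a, T_b, T_a, T_bi, T_a, T_b, T_a, T_bi, T_a, T_b, T_a, T_bi, T_a, T_b, T_a, T_b, T_a, T_bi, T_a, T_bi] M (Nat.sub (MG u) (Nat.mod (MG u) M)) (nat_lit 40) z1 u (Nat.mod (MG u) M)) (Nat.ble (nat_lit 84) j)) (Bool.rec (motive := fun _ => Bool) (mRel MG [T_a, T_bi, T_a, T_b, T_a, T_bi, T_a, T_b, T_a, T_b, T_a, T_bi, T_a, T_bi, T_a, T_b, T_a, T_b, T_a, T_bi, T_a, T_b, T_a, T_bi, T_a,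 T_b, T_a, T_bi, T_a, T_b, T_a, T_bi, T_a, T_b, T_a] [T_bi, T_a, T_b, T_a, T_bi, T_a, T_b, T_a, T_bi, T_a, T_b, T_a, T_bi, T_a, T_b, T_a, T_bi, T_a, T_bi, T_a, T_b, T_a, T_b, T_a, T_bi, T_a, T_bi, T_a, T_b, T_a, T_bi, T_a, T_b] M (Nat.sub (MG u) (Nat.mod (MG u) M)) (nat_lit 40) z1 u (Nat.mod (MG u) M)) (Bool.rec (motive := fun _ => Bool) (mRel MG [T_b, T_a, T_b, T_a, T_bi, T_a, T_b, T_a, T_bi, T_a, T_b, T_a, T_bi, T_a, T_b, T_a, T_bi, T_a, T_b, T_a, T_bi, T_a, T_b, T_a, T_bi, T_a, T_b, T_a] [T_a, T_b, T_a, T_b, T_a, T_bi, T_a, T_bi, T_a, T_b, T_a, T_bi, T_a, T_b, T_a, T_bi, T_a, T_b, T_a, T_bi, T_a, T_b, T_a, T_bi, T_a, T_b, T_a, T_bi, T_a, T_b, T_a, T_bi, T_a, T_bi, T_a, T_b, T_a, T_b, T_a, T_bi] M (Nat.sub (MG u) (Nat.mod (MG u) M)) (nat_lit 40) z1 u (Nat.mod (MG u) M)) (mRel MG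 [T_b, T_a, T_bi, T_a, T_b, T_a, T_bi, T_a, T_b, T_a, T_bi, T_a, T_b, T_a, T_bi, T_a, T_b, T_a, T_b, T_a, T_bi, T_a, T_bi, T_a, T_b, T_a, T_b, T_a, T_bi, T_a, T_b, T_a, T_bi, T_a, T_b, T_a, T_bi, T_a, T_b, T_a, T_bi, T_a, T_b, T_a, T_bi, T_a, T_b, T_a, T_bi, T_a, T_b, T_a, T_b, T_a, T_bi, T_a] [T_a, T_b, T_a, T_bi, T_a, T_b, T_a, T_bi, T_a, T_bi, T_a, T_b] M (Nat.sub (MG u) (Nat.mod (MG u) M)) (nat_lit 40) z1 u (Nat.mod (MG u) M)) (Nat.ble (nat_lit 87) j)) (Nat.ble (nat_lit 86) j)) (Nat.ble (nat_lit 85) j)) (Nat.ble (nat_lit 83) j)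
noncomputable def dM_18 (j z1 z2 u : ℕ) : Bool :=
  Bool.rec (motive := fun _ => Bool) (dM_16 j z1 z2 u) (dM_17 j z1 z2 u) (Nat.ble (nat_lit 79) j)
noncomputable def dM_19 (j z1 z2 u : ℕ) : Bool :=
  Bool.rec (motive := fun _ => Bool) (Bool.rec (motive := fun _ => Bool) (Bool.rec (motive := fun _ => Bool) (mRel MG [T_a, T_bi, T_a, T_bi, T_a, T_b, T_a, T_b, T_a, T_bi, T_a, T_b, T_a, T_bi, T_a, T_b, T_a, T_bi, T_a, T_b, T_a, T_bi, T_a, T_b, T_a, T_bi, T_a, T_b, T_a, T_bi, T_a, T_b, T_a, T_b, T_a, T_bi, T_a, T_bi, T_a, T_b, T_a] [T_bi, T_a, T_bi, T_a, T_b, T_a, T_bi, T_a, T_b, T_a, T_bi, T_a, T_b, T_a, T_bi, T_a, T_b, T_a, T_bi, T_a, T_b, T_a, T_bi, T_a, T_b, T_a, T_bi] M (Nat.sub (MG u) (Nat.mod (MG u) M)) (nat_lit 40) z1 u (Nat.mod (MG u) M)) (mRel MG [T_a, T_bi, T_a, T_b, T_a, T_bi,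 T_a, T_b, T_a, T_bi, T_a, T_b, T_a, T_bi, T_a, T_b, T_a, T_bi, T_a, T_b, T_a, T_bi, T_a, T_b, T_a, T_b, T_a, T_bi, T_a, T_bi, T_a, T_b, T_a, T_b, T_a, T_bi, T_a, T_b, T_a, T_bi, T_a, T_b, T_a, T_bi, T_a, T_b, T_a, T_bi, T_a] [T_bi, T_a, T_bi, T_a, T_b, T_a, T_b, T_a, T_bi, T_a, T_bi, T_a, T_b, T_a, T_bi, T_a, T_b, T_a, T_bi] M (Nat.sub (MG u) (Nat.mod (MG u) M)) (nat_lit 40) z1 u (Nat.mod (MG u) M)) (Nat.ble (nat_lit 89) j)) (Bool.rec (motive := fun _ => Bool) (mRel MG [T_bi, T_a, T_bi, T_a, T_b, T_a, T_b, T_a, T_bi, T_a, T_bi, T_a, T_b, T_a, T_bi, T_a, T_b, T_a, T_bi, T_a, T_b, T_a, T_bi, T_a, T_b, T_a, T_bi, T_a, T_b, T_a, T_bi, T_a, T_b, T_a] [T_a, T_bi, T_a, T_b, T_a, T_bi, T_a, T_b, T_a, T_bi, T_a, T_b, T_a, T_bi, T_a, T_b, T_a, T_bi, T_a, T_b, T_a, T_bi, T_a, T_b, T_a, T_b,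 T_a, T_bi, T_a, T_bi, T_a, T_b, T_a, T_b] M (Nat.sub (MG u) (Nat.mod (MG u) M)) (nat_lit 40) z1 u (Nat.mod (MG u) M)) (mRel MG [T_b, T_a, T_b, T_a, T_bi, T_a, T_bi, T_a, T_b, T_a, T_bi, T_a, T_b, T_a, T_bi, T_a, T_b, T_a, T_bi, T_a, T_b, T_a, T_bi, T_a, T_b, T_a, T_bi, T_a, T_b, T_a, T_bi, T_a, T_bi, T_a] [T_a, T_b, T_a, T_b, T_a, T_bi, T_a, T_b, T_a, T_bi, T_a, T_b, T_a, T_bi, T_a, T_b, T_a, T_bi, T_a, T_b, T_a, T_bi, T_a, T_b, T_a, T_bi, T_a, T_b, T_a, T_b, T_a, T_bi, T_a, T_bi] M (Nat.sub (MG u) (Nat.mod (MG u) M)) (nat_lit 40) z1 u (Nat.mod (MG u) M)) (Nat.ble (nat_lit 91) j)) (Nat.ble (nat_lit 90) j)) (Bool.rec (motive := fun _ => Bool) (Bool.rec (motive := fun _ => Bool) (mRel MG [T_b, T_a, T_bi, T_a, T_b, T_a, T_bi, T_a, T_bi, T_a, T_b, T_a, T_b, T_a, T_bi, T_a, T_bi, T_a,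 T_b, T_a, T_bi, T_a] [T_a, T_b, T_a, T_bi, T_a, T_b, T_a, T_bi, T_a, T_b, T_a, T_bi, T_a, T_b, T_a, T_bi, T_a, T_b, T_a, T_b, T_a, T_bi, T_a, T_bi, T_a, T_b, T_a, T_b, T_a, T_bi, T_a, T_b, T_a, T_bi, T_a, T_b, T_a, T_bi, T_a, T_b, T_a, T_bi, T_a, T_b, T_a, T_bi] M (Nat.sub (MG u) (Nat.mod (MG u) M)) (nat_lit 40) z1 u (Nat.mod (MG u) M)) (mRel MG [T_b, T_a, T_bi, T_a, T_b, T_a, T_bi, T_a, T_b, T_a, T_bi, T_a, T_b, T_a, T_b, T_a, T_bi, T_a, T_bi, T_a, T_b, T_a, T_b, T_a, T_bi, T_a, T_b, T_a, T_bi, T_a, T_b, T_a, T_bi, T_a, T_b, T_a, T_bi, T_a, T_b, T_a, T_bi, T_a, T_b, T_a, T_bi, T_a, T_b, T_a, T_b, T_a, T_bi, T_a, T_bi, T_a, T_b, T_a, T_b, T_a, T_bi, T_a, T_b, T_a] [T_a, T_b, T_a, T_bi, T_a, T_b] M (Nat.sub (MG u) (Nat.mod (MG u) M)) (nat_lit 40) z1 u (Nat.mod (MG u) M)) (Nat.ble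 (nat_lit 93) j)) (Bool.rec (motive := fun _ => Bool) (mRel MG [T_b, T_a, T_b, T_a, T_b, T_a, T_b] [T_a, T_bi, T_a, T_bi, T_a, T_bi, T_a] M (Nat.sub (MG u) (Nat.mod (MG u) M)) (nat_lit 40) z1 u (Nat.mod (MG u) M)) (mRel MG [T_a, T_bi, T_a, T_b, T_a, T_b, T_a, T_bi, T_a, T_b, T_a, T_bi, T_a, T_b, T_a, T_bi, T_a] [T_b, T_a, T_bi, T_a, T_bi, T_a, T_b, T_a, T_bi, T_a, T_b, T_a, T_bi, T_a, T_b, T_a, T_bi, T_a, T_b, T_a, T_bi, T_a, T_b, T_a, T_bi, T_a, T_b, T_a, T_bi, T_a, T_bi, T_a, T_b, T_a, T_b, T_a, T_bi, T_a, T_bi, T_a, T_b, T_a, T_bi, T_a, T_b, T_a, T_bi, T_a, T_b, T_a, T_bi] M (Nat.sub (MG u) (Nat.mod (MG u) M)) (nat_lit 40) z1 u (Nat.mod (MG u) M)) (Nat.ble (nat_lit 95) j)) (Nat.ble (nat_lit 94) j)) (Nat.ble (nat_lit 92) j)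
noncomputable def dM_20 (j z1 z2 u : ℕ) : Bool :=
  Bool.rec (motive := fun _ => Bool) (Bool.rec (motive := fun _ => Bool) (Bool.rec (motive := fun _ => Bool) (mRel MG [T_a, T_bi, T_a, T_b, T_a, T_bi, T_a, T_b, T_a, T_bi, T_a, T_b, T_a, T_bi, T_a, T_b, T_a, T_bi, T_a, T_b, T_a] [T_b, T_a, T_bi, T_a, T_bi, T_a, T_b, T_a, T_b, T_a, T_bi, T_a, T_b, T_a, T_bi, T_a, T_b, T_a, T_bi, T_a, T_b, T_a, T_bi, T_a, T_b, T_a, T_bi, T_a, T_b, T_a, T_bi, T_a, T_b, T_a, T_b, T_a, T_bi, T_a, T_bi, T_a, T_b, T_a, T_b, T_a, T_bi, T_a, T_b] M (Nat.sub (MG u) (Nat.mod (MG u) M)) (nat_lit 40) z1 u (Nat.mod (MG u) M)) (mRel MG [T_b, T_a, T_bi, T_a, T_b, T_a, T_bi, T_a, T_b, T_a, T_bi, T_a, T_b, T_a, T_bi, T_a, T_b, T_a, T_b, T_a, T_bi, T_a, T_bi, T_a, T_b, T_a, T_b, T_a, T_bi, T_a, T_b, T_a, T_bi, T_a]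 [T_a, T_b, T_a, T_bi, T_a, T_b, T_a, T_bi, T_a, T_bi, T_a, T_b, T_a, T_b, T_a, T_bi, T_a, T_bi, T_a, T_b, T_a, T_bi, T_a, T_b, T_a, T_bi, T_a, T_b, T_a, T_bi, T_a, T_b, T_a, T_bi] M (Nat.sub (MG u) (Nat.mod (MG u) M)) (nat_lit 40) z1 u (Nat.mod (MG u) M)) (Nat.ble (nat_lit 97) j)) (Bool.rec (motive := fun _ => Bool) (mRel MG [T_a, T_bi, T_a] [T_bi, T_a, T_b, T_a, T_bi, T_a, T_bi, T_a, T_b, T_a, T_b, T_a, T_bi, T_a, T_bi, T_a, T_b, T_a, T_bi, T_a, T_b, T_a, T_bi, T_a, T_b, T_a, T_bi, T_a, T_b, T_a, T_bi, T_a, T_b, T_a, T_bi, T_a, T_b, T_a, T_bi, T_a, T_bi, T_a, T_b, T_a, T_b, T_a, T_bi, T_a, T_bi, T_a, T_b, T_a, T_bi, T_a, T_b, T_a, T_bi, T_a, T_b, T_a, T_bi, T_a, T_b, T_a, T_bi] M (Nat.sub (MG u) (Nat.mod (MG u) M)) (nat_lit 40) z1 u (Nat.mod (MG u) M)) (mRel MG [T_b, T_a, T_b,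 T_a, T_bi, T_a, T_bi, T_a, T_b, T_a, T_bi, T_a, T_b, T_a, T_bi, T_a] [T_a, T_b, T_a, T_b, T_a, T_bi, T_a, T_b, T_a, T_bi, T_a, T_b, T_a, T_bi, T_a, T_b, T_a, T_bi, T_a, T_b, T_a, T_bi, T_a, T_b, T_a, T_bi, T_a, T_b, T_a, T_b, T_a, T_bi, T_a, T_bi, T_a, T_b, T_a, T_b, T_a, T_bi, T_a, T_b, T_a, T_bi, T_a, T_b, T_a, T_bi, T_a, T_b, T_a, T_bi] M (Nat.sub (MG u) (Nat.mod (MG u) M)) (nat_lit 40) z1 u (Nat.mod (MG u) M)) (Nat.ble (nat_lit 99) j)) (Nat.ble (nat_lit 98) j)) (Bool.rec (motive := fun _ => Bool) (Bool.rec (motive := fun _ => Bool) (mRel MG [T_a, T_bi, T_a, T_b, T_a, T_b, T_a, T_bi, T_a, T_bi, T_a, T_b, T_a, T_b, T_a, T_bi, T_a, T_b, T_a, T_bi, T_a, T_b, T_a] [T_bi, T_a, T_b, T_a, T_bi, T_a, T_b, T_a, T_bi, T_a, T_b, T_a, T_bi, T_a, T_b, T_a, T_bi, T_a, T_b, T_a, T_bi, T_a,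 T_bi, T_a, T_b, T_a, T_b, T_a, T_bi, T_a, T_bi, T_a, T_b, T_a, T_bi, T_a, T_b, T_a, T_bi, T_a, T_b, T_a, T_bi, T_a, T_b] M (Nat.sub (MG u) (Nat.mod (MG u) M)) (nat_lit 40) z1 u (Nat.mod (MG u) M)) (mRel MG [T_bi, T_a, T_bi, T_a, T_bi, T_a, T_bi, T_a, T_bi, T_a, T_bi] [T_a, T_b, T_a] M (Nat.sub (MG u) (Nat.mod (MG u) M)) (nat_lit 40) z1 u (Nat.mod (MG u) M)) (Nat.ble (nat_lit 101) j)) (Bool.rec (motive := fun _ => Bool) (mRel MG [T_a, T_b, T_a, T_bi, T_a, T_b, T_a, T_bi, T_a, T_b, T_a, T_bi, T_a, T_b, T_a, T_bi, T_a, T_b, T_a, T_bi, T_a, T_b, T_a, T_bi, T_a, T_b, T_a, T_b, T_a, T_bi, T_a, T_bi, T_a, T_b, T_a, T_b, T_a, T_bi, T_a, T_b, T_a, T_bi, T_a, T_b, T_a, T_bi] [T_bi, T_a, T_b, T_a, T_b, T_a, T_bi, T_a, T_bi, T_a, T_b, T_a, T_bi, T_a, T_b, T_a, T_bi, T_a, T_b, T_a, T_bi, T_a]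 M (Nat.sub (MG u) (Nat.mod (MG u) M)) (nat_lit 40) z1 u (Nat.mod (MG u) M)) (Bool.rec (motive := fun _ => Bool) (mRel MG [T_bi, T_a, T_bi, T_a, T_bi, T_a, T_bi, T_a, T_bi] [T_a, T_b, T_a, T_b, T_a] M (Nat.sub (MG u) (Nat.mod (MG u) M)) (nat_lit 40) z1 u (Nat.mod (MG u) M)) (mRel MG [T_a, T_b, T_a, T_b] [T_bi, T_a, T_bi, T_a, T_bi, T_a, T_bi, T_a, T_bi, T_a] M (Nat.sub (MG u) (Nat.mod (MG u) M)) (nat_lit 40) z1 u (Nat.mod (MG u) M)) (Nat.ble (nat_lit 104) j)) (Nat.ble (nat_lit 103) j)) (Nat.ble (nat_lit 102) j)) (Nat.ble (nat_lit 100) j)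
noncomputable def dM_21 (j z1 z2 u : ℕ) : Bool :=
  Bool.rec (motive := fun _ => Bool) (dM_19 j z1 z2 u) (dM_20 j z1 z2 u) (Nat.ble (nat_lit 96) j)
noncomputable def dM_22 (j z1 z2 u : ℕ) : Bool :=
  Bool.rec (motive := fun _ => Bool) (dM_18 j z1 z2 u) (dM_21 j z1 z2 u) (Nat.ble (nat_lit 88) j)
noncomputable def dM_23 (j z1 z2 u : ℕ) : Bool :=
  Bool.rec (motive := fun _ => Bool) (dM_15 j z1 z2 u) (dM_22 j z1 z2 u) (Nat.ble (nat_lit 71) j)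
noncomputable def dM_24 (j z1 z2 u : ℕ) : Bool :=
  Bool.rec (motive := fun _ => Bool) (dM_8 j z1 z2 u) (dM_23 j z1 z2 u) (Nat.ble (nat_lit 37) j)
noncomputable def dM_25 (j z1 z2 u : ℕ) : Bool :=
  Bool.rec (motive := fun _ => Bool) (dM_1 j z1 z2 u) (dM_24 j z1 z2 u) (Nat.ble (nat_lit 9) j)
noncomputable def dM_26 (j z1 z2 u : ℕ) : Bool :=
  Bool.rec (motive := fun _ => Bool) (dM_0 j z1 z2 u) (dM_25 j z1 z2 u) (Nat.ble (nat_lit 2) j)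
noncomputable def chkM (u : ℕ) : Bool :=
  Bool.rec (motive := fun _ => Bool) (band (Nat.ble (Nat.succ (Nat.mod (MG u) M)) u) (dM_26 (Nat.land (MR u) (nat_lit 127)) (Nat.land (Nat.shiftRight (MR u) (nat_lit 7)) (nat_lit 32767)) (Nat.shiftRight (MR u) (nat_lit 22)) u)) true (Nat.ble A (MG u))
noncomputable def chkN (u : ℕ) : Bool :=
  band (chk_a (Nat.land (Nat.shiftRight (RS u) (nat_lit 0)) (nat_lit 127)) u) (band (chk_b (Nat.land (Nat.shiftRight (RS u) (nat_lit 7)) (nat_lit 127)) u) (band (chk_bi (Nat.land (Nat.shiftRight (RS u) (nat_lit 14)) (nat_lit 127)) u) (chkM u)))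
noncomputable def chkP (u : ℕ) : Bool := Bool.rec (motive := fun _ => Bool) (chkN u) true (Nat.ble M u)
noncomputable def liveP (u : ℕ) : Bool := Bool.rec (motive := fun _ => Bool) (Nat.ble A (MG u)) false (Nat.ble M u)
end H63.TCJ1s
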